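import Cfsg.Agent.Omega.NO3S.SN.ROne.Grp
import Cfsg.Agent.Omega.NO3S.SN.R1.Def
import Cfsg.Agent.Omega.FF.Quad

/-!
# LightL at levels, `r = 1` (helper763 #23689 (2)): minimal best offenders

* `best_quad` : a minimal best offender is quadratic (Timmesfeld);
* `best_sub` : `A` a minimal best offender on `W₀`, `W ≤ W₀` not centralised by `A`, (ML) for `W` ⟹ `C_A(W) = C_A(W₀)`,
  `W₀ = W C_{W₀}(A)`, `A` is a minimal best offender on `W`;
* **`GAt.of_best`**.
-/

set_option autoImplicit false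
set_option linter.unusedSectionVars false

namespace Cfsg.Agent.Omega.NO3S.SN.ROne

open Subgroup Cfsg
open Cfsg.Agent.Omega.FOne.QR (SwR AtR FsR LaR cmR fxW)
open Cfsg.Agent.Omega.NO3S.SN.R1 (Best)
open Cfsg.Agent.Omega.FF.Basic (fx EA mm mm_bot)

universe u

variable {G : Type u} [Group G] [Finite G] {Y W W₀ R T O A : Subgroup G} {θ : G}

theorem cen_rel {A B W : Subgroup G} (hB : B ≤ A) :
    (A ⊓ centralizer (W : Set G)).relIndex B = (centralizer (W : Set G)).relIndex B := by
  rw [← inf_relIndex_right, ← inf_relIndex_right (centralizer (W : Set G))]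
  congr 1
  rw [inf_comm A, inf_assoc, inf_eq_right.2 hB]

/-- `|A : C_A(W)| = |A : B| |B : C_B(W)|` -/
theorem cen_mul {B : Subgroup G} (h1 : A ⊓ centralizer (W : Set G) ≤ B) (hB : B ≤ A) :
    (centralizer (W : Set G)).relIndex B * B.relIndex A = (centralizer (W : Set G)).relIndex A := by
  rw [← cen_rel hB, ← cen_rel (le_refl A)]
  exact relIndex_mul_relIndex _ _ _ h1 hB

/-- `|W : C_W(A)| = |W : C_W(B)| |C_W(B) : C_W(A)|` -/
theorem fix_mul {B : Subgroup G} (hB : B ≤ A) :
    (centralizer (A : Set G)).relIndex (W ⊓ centralizer (B : Set G)) * (centralizer (B : Set G)).relIndex W =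
      (centralizer (A : Set G)).relIndex W := by
  rw [inf_comm W, relIndex_inf_mul_relIndex, inf_eq_left.2 (centralizer_le hB)]

/-- **A minimal best offender is quadratic.** -/
theorem best_quad (hAW : A ≤ normalizer (W : Set G)) (hc : ∀ a ∈ W, ∀ b ∈ W, a * b = b * a)
    (hs : ∀ a ∈ W, a * a = 1) (hb : Best W A) :
    ∀ a ∈ A, ∀ b ∈ A, ∀ w ∈ W, a * (b * w * b⁻¹ * w⁻¹) * a⁻¹ = b * w * b⁻¹ * w⁻¹ := by
  let _ := cgr hc
  let _ := actI hAW hc
  let ι : Additive W → G := fun w => ((Additive.toMul w : W) : G)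
  have hfi : ∀ {B : Subgroup G}, B ≤ A → (fx (Additive W) (img hAW B)).index = (centralizer (B : Set G)).relIndex W :=
    fun hB => index_fxW hAW hc hB
  have hci : ∀ {B : Subgroup G}, B ≤ A → Nat.card (img hAW B) = (centralizer (W : Set G)).relIndex B :=
    fun hB => card_img hAW hB
  have hEA : EA (img hAW A) := by
    rintro _ ⟨y, hy, rfl⟩
    rw [← map_mul]
    refine (rr_eq_one hAW).2 ?_
    have h1 := hb.el.sq y hy
    rwa [pow_two] at h1
  have htop : ∀ F : Subgroup (Im hAW), F ≤ img hAW A := by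
    rintro F x -
    obtain ⟨y, rfl⟩ := (phi hAW).rangeRestrict_surjective x
    exact ⟨y, y.2, rfl⟩
  have hne : img hAW A ≠ ⊥ := by
    intro e
    refine hb.ne fun a ha => ?_
    have h1 : (phi hAW).rangeRestrict ⟨a, ha⟩ ∈ img hAW A := ⟨_, ha, rfl⟩
    rw [e, mem_bot] at h1
    exact (rr_eq_one hAW).1 h1
  have hv : ∀ F : Subgroup (Im hAW), (fx (Additive W) F).index * Nat.card (fx (Additive W) F) = Nat.card (Additive W) :=
    fun F => (fx (Additive W) F).index_mul_card
  -- the maximum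
  have hbot : mm (Additive W) (⊥ : Subgroup (Im hAW)) ≤ mm (Additive W) (img hAW A) := by
    rw [mm_bot, ← hv (img hAW A), mm]
    refine Nat.mul_le_mul_right _ ?_
    rw [hfi le_rfl, hci le_rfl]
    exact hb.off
  have hlt : ∀ F : Subgroup (Im hAW), F < img hAW A → F ≠ ⊥ →
      mm (Additive W) F < mm (Additive W) (img hAW A) := by
    intro C hCA hC1
    set B : Subgroup G := (C.comap (phi hAW).rangeRestrict).map A.subtype with hB
    have hmB : ∀ y : A, (y : G) ∈ B ↔ (phi hAW).rangeRestrict y ∈ C := by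
      intro y
      constructor
      · rintro ⟨y', hy', e⟩
        rw [← Subtype.ext e]
        exact hy'
      · intro hy
        exact ⟨y, hy, rfl⟩
    have hBA : B ≤ A := by
      rintro _ ⟨y, -, rfl⟩
      exact y.2
    have hBC : img hAW B = C := by
      ext x
      rw [mem_img]
      constructor
      · rintro ⟨y, hy, rfl⟩
        exact (hmB y).1 hy
      · intro hx
        obtain ⟨y, hy, rfl⟩ := hCA.le hx
        exact ⟨y, (hmB y).2 hx, rfl⟩
    have hKB : A ⊓ centralizer (W : Set G) ≤ B := by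
      intro g hg
      refine (hmB ⟨g, hg.1⟩).2 ?_
      rw [(rr_eq_one hAW).2 hg.2]
      exact C.one_mem
    have h1 := hb.min B (lt_of_le_of_ne hKB fun e => hC1 ?_) (lt_of_le_of_ne hBA fun e => hCA.ne ?_)
    · have h2 := cen_mul hKB hBA
      have h3 := fix_mul (W := W) hBA
      have h4 := hv (img hAW A)
      have h5 := hv (img hAW B)
      rw [mm, mm, ← hBC, hci le_rfl, hci hBA, ← h2]
      rw [hfi le_rfl, ← h3] at h4
      rw [hfi hBA, ← h4] at h5
      set r := (centralizer (A : Set G)).relIndex (W ⊓ centralizer (B : Set G))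
      set iB := (centralizer (B : Set G)).relIndex W
      set cB := (centralizer (W : Set G)).relIndex B
      set fA := Nat.card (fx (Additive W) (img hAW A))
      set fB := Nat.card (fx (Additive W) (img hAW B))
      have p1 : 0 < iB := Nat.pos_of_ne_zero index_ne_zero_of_finite
      have p2 : 0 < cB := Nat.pos_of_ne_zero index_ne_zero_of_finite
      have p3 : 0 < fA := Nat.card_pos
      have h6 : fB = r * fA := by
        apply Nat.eq_of_mul_eq_mul_left p1
        rw [h5]
        ring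
      rw [h6]
      calc cB * (r * fA) = r * (cB * fA) := by ring
        _ < B.relIndex A * (cB * fA) := Nat.mul_lt_mul_of_pos_right h1 (Nat.mul_pos p2 p3)
        _ = cB * B.relIndex A * fA := by ring
    · rw [eq_bot_iff, ← hBC]
      rintro _ ⟨y, hy, rfl⟩
      rw [mem_bot]
      have hy' : (y : G) ∈ B := hy
      rw [← e] at hy'
      exact (rr_eq_one hAW).2 hy'.2
    · rw [← hBC, e]
  have hmax : ∀ F : Subgroup (Im hAW), EA F → mm (Additive W) F ≤ mm (Additive W) (img hAW A) := by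
    intro F _
    by_cases h1 : F = ⊥
    · rw [h1]
      exact hbot
    · rcases (htop F).eq_or_lt with h2 | h2
      · rw [h2]
      · exact (hlt F h2 h1).le
  have key := FF.Quad.quad (V := Additive W) (A := img hAW A)
    (fun v => congrArg Additive.ofMul (Subtype.ext (hs _ (Additive.toMul v : W).2))) hEA hne hmax hlt
  intro a ha b hb w hw
  have h1 := key _ ((mem_img hAW).2 ⟨⟨b, hb⟩, hb, rfl⟩) _ ((mem_img hAW).2 ⟨⟨a, ha⟩, ha, rfl⟩)
    (Additive.ofMul ⟨w, hw⟩)
  rw [sub_eq_add_neg] at h1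
  exact congrArg ι h1

/-- `|U : C_U(..)|` in an abelian group -/
theorem relIndex_sup_of_comm {W U K : Subgroup G} (hc : ∀ a ∈ W, ∀ b ∈ W, a * b = b * a) (hU : U ≤ W) (hK : K ≤ W) :
    K.relIndex (U ⊔ K) = K.relIndex U := by
  let _ := cgr hc
  rw [← relIndex_subgroupOf (H := K) (sup_le hU hK), ← relIndex_subgroupOf (H := K) hU, subgroupOf_sup hU hK]
  exact relIndex_sup_right _ _

/-- **From the big module to `W`.** -/
theorem best_sub (hW : W ≤ W₀) (hc : ∀ a ∈ W₀, ∀ b ∈ W₀, a * b = b * a) (hb : Best W₀ A)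
    (hm : ¬ A ≤ centralizer (W : Set G))
    (key : (centralizer (W : Set G)).relIndex A ≤ (centralizer (A : Set G)).relIndex W) :
    A ⊓ centralizer (W : Set G) ≤ centralizer (W₀ : Set G) ∧ W₀ ≤ W ⊔ (W₀ ⊓ centralizer (A : Set G)) ∧
      (centralizer (W : Set G)).relIndex A = (centralizer (W₀ : Set G)).relIndex A ∧
      (centralizer (A : Set G)).relIndex W ≤ (centralizer (W : Set G)).relIndex A ∧
      ∀ B : Subgroup G, A ⊓ centralizer (W : Set G) < B → B < A →
        (centralizer (W : Set G)).relIndex B < (centralizer (B : Set G)).relIndex W := by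
  set E : Subgroup G := A ⊓ centralizer (W : Set G) with hE
  have hEA : E ≤ A := inf_le_left
  have hWE : W ≤ W₀ ⊓ centralizer (E : Set G) := by
    refine le_inf hW fun u hu => mem_centralizer_iff.2 fun b hb => ?_
    exact (mem_centralizer_iff.1 hb.2 u hu).symm
  have hlt : E < A := by
    refine lt_of_le_of_ne hEA fun he => hm ?_
    rw [← he]
    exact inf_le_right
  have hWB : A ⊓ centralizer (W₀ : Set G) ≤ E := inf_le_inf_left _ (centralizer_le hW)
  have hEr : E.relIndex A = (centralizer (W : Set G)).relIndex A := cen_rel le_rfl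
  have heq : A ⊓ centralizer (W₀ : Set G) = E := by
    rcases hWB.eq_or_lt with h1 | h1
    · exact h1
    · exfalso
      have h2 := hb.min E h1 hlt
      have h3 := relIndex_le_of_le_right (H := centralizer (A : Set G)) hWE index_ne_zero_of_finite
      omega
  have h3 : E ≤ centralizer (W₀ : Set G) := by
    rw [← heq]
    exact inf_le_right
  have e3 : (centralizer (W₀ : Set G)).relIndex A = (centralizer (W : Set G)).relIndex A := by
    rw [← hEr, ← heq]
    exact (cen_rel le_rfl).symm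
  have e4 := hb.off
  set S := W₀ ⊓ centralizer (A : Set G) with hS
  have e1 : S.relIndex W₀ = (centralizer (A : Set G)).relIndex W₀ := by
    rw [hS, inf_comm, inf_relIndex_right]
  have e2 : S.relIndex W = (centralizer (A : Set G)).relIndex W := by
    rw [← inf_relIndex_right S, ← inf_relIndex_right (centralizer (A : Set G)), hS]
    congr 1
    rw [inf_assoc, inf_comm, inf_assoc, inf_eq_left.2 hW]
  have e5 : S.relIndex W ≤ S.relIndex (W ⊔ S) :=
    relIndex_le_of_le_right le_sup_left index_ne_zero_of_finite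
  have e6 : S.relIndex (W ⊔ S) * (W ⊔ S).relIndex W₀ = S.relIndex W₀ :=
    relIndex_mul_relIndex _ _ _ le_sup_right (sup_le hW inf_le_left)
  have e7 : 0 < S.relIndex (W ⊔ S) := Nat.pos_of_ne_zero index_ne_zero_of_finite
  have e8 : (W ⊔ S).relIndex W₀ ≤ 1 := by
    by_contra hcon
    have h5 : S.relIndex (W ⊔ S) * 2 ≤ S.relIndex (W ⊔ S) * (W ⊔ S).relIndex W₀ :=
      Nat.mul_le_mul_left _ (by omega)
    omega
  have e9 : (W ⊔ S).relIndex W₀ ≠ 0 := index_ne_zero_of_finite
  have h4 : W₀ ≤ W ⊔ S := relIndex_eq_one.1 (by omega)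
  have h5 : W₀ = W ⊔ S := le_antisymm h4 (sup_le hW inf_le_left)
  have h6 : (centralizer (A : Set G)).relIndex W₀ = (centralizer (A : Set G)).relIndex W := by
    rw [← e1, ← e2]
    conv_lhs => rw [h5]
    exact relIndex_sup_of_comm hc hW inf_le_left
  have hoff : (centralizer (A : Set G)).relIndex W ≤ (centralizer (W : Set G)).relIndex A := by omega
  refine ⟨h3, h4, e3.symm, hoff, fun B hB1 hB2 => ?_⟩
  have h7 := hb.min B (by rwa [heq]) hB2
  have h8 := cen_mul (W := W) hB1.le hB2.le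
  have h9 := fix_mul (W := W₀) hB2.le
  -- `|W : C_W(B)| = |W₀ : C_{W₀}(B)|`
  have h10 : (centralizer (B : Set G)).relIndex W₀ = (centralizer (B : Set G)).relIndex W := by
    set K := W₀ ⊓ centralizer (B : Set G) with hK
    have k1 : K.relIndex W₀ = (centralizer (B : Set G)).relIndex W₀ := by
      rw [hK, inf_comm, inf_relIndex_right]
    have k2 : K.relIndex W = (centralizer (B : Set G)).relIndex W := by
      rw [← inf_relIndex_right K, ← inf_relIndex_right (centralizer (B : Set G)), hK]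
      congr 1
      rw [inf_assoc, inf_comm, inf_assoc, inf_eq_left.2 hW]
    have hSK : S ≤ K := inf_le_inf_left _ (centralizer_le hB2.le)
    have k3 : W₀ = W ⊔ K := le_antisymm (h4.trans (sup_le_sup_left hSK _)) (sup_le hW inf_le_left)
    rw [← k1, ← k2]
    conv_lhs => rw [k3]
    exact relIndex_sup_of_comm hc hW inf_le_left
  rw [h10, h6] at h9
  set r := (centralizer (A : Set G)).relIndex (W₀ ⊓ centralizer (B : Set G))
  set cB := (centralizer (W : Set G)).relIndex B
  set iB := (centralizer (B : Set G)).relIndex W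
  have h11 : cB * B.relIndex A ≤ r * iB := by
    rw [h8, h9]
    exact key
  by_contra hcon
  push Not at hcon
  have p1 : 0 < iB := Nat.pos_of_ne_zero index_ne_zero_of_finite
  have h12 : r * iB < B.relIndex A * iB := Nat.mul_lt_mul_of_pos_right h7 p1
  have h13 : B.relIndex A * iB ≤ cB * B.relIndex A := by
    rw [mul_comm]
    exact Nat.mul_le_mul_right _ hcon
  omega

/-- (ML) for `W / R` gives (ML) for `W` -/
theorem GSw.ml (hML : ML.Final.MLK.{u, u}) (h : GSw Y W R T O θ) (hAO : A ≤ O)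
    (sq : ∀ a ∈ A, a * a ∈ centralizer (W : Set G)) :
    (centralizer (W : Set G)).relIndex A ≤ (centralizer (A : Set G)).relIndex W := by
  have S := h.sw
  let _ := cgr h.Wc
  let _ := actI h.WY h.Wc
  have hAY : A ≤ Y := hAO.trans h.OY
  have h1 : Nat.card (img h.WY A) ≤ (cmR (adR W R h.Wc) (img h.WY A)).index := by
    refine S.no hML ?_ ?_
    · rintro _ ⟨y, hy, rfl⟩
      exact (mem_img h.WY).2 ⟨y, hAO hy, rfl⟩
    · rintro _ ⟨y, hy, rfl⟩
      rw [← map_mul]
      exact (rr_eq_one h.WY).2 (sq y hy)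
  rw [card_img h.WY hAY] at h1
  rw [← index_fxW h.WY h.Wc hAY]
  refine h1.trans (AddSubgroup.index_antitone (FOne.QR.fxW_le S.two _))

/-- **`GAt` from a minimal best offender on a bigger module.** -/
theorem GAt.of_best (hML : ML.Final.MLK.{u, u}) (h : GSw Y W R T O θ) (hW : W ≤ W₀)
    (hc : ∀ a ∈ W₀, ∀ b ∈ W₀, a * b = b * a) (hs : ∀ a ∈ W₀, a * a = 1) (hAW : A ≤ normalizer (W₀ : Set G))
    (hb : Best W₀ A) (hAO : A ≤ O) (hm : ¬ A ≤ centralizer (W : Set G))
    (four : 4 ≤ (centralizer (W₀ : Set G)).relIndex A)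
    (m1 : ∀ a ∈ A, ∀ y ∈ Y, a * (y * θ * y⁻¹) * a⁻¹ * (y * θ * y⁻¹)⁻¹ ∈ R →
      a * (y * θ * y⁻¹) * a⁻¹ = y * θ * y⁻¹) :
    GAt Y W R O A θ ∧ A ⊓ centralizer (W : Set G) ≤ centralizer (W₀ : Set G) ∧
      W₀ ≤ W ⊔ (W₀ ⊓ centralizer (A : Set G)) := by
  have hsq : ∀ a ∈ A, a * a ∈ centralizer (W : Set G) := by
    intro a ha
    have h1 := hb.el.sq a ha
    rw [pow_two] at h1
    exact centralizer_le hW h1
  obtain ⟨h1, h2, h3, h4, h5⟩ := best_sub hW hc hb hm (h.ml hML hAO hsq)
  have hq := best_quad hAW hc hs hb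
  exact ⟨⟨hAO, hsq, fun a ha b hb w hw => hq a ha b hb w (hW hw), by rwa [h3], h4, h5, m1⟩, h1, h2⟩

/-- **Dead.** -/
theorem best_dead (hML : ML.Final.MLK.{u, u})
    (box : ∀ (X : Type u) [Group X] (M : Type u) [AddCommGroup M] [DistribMulAction X M] (R : AddSubgroup M) (θ : M)
      (T N B : Subgroup X), SwR R θ T N → AtR R N B → False)
    (h : GSw Y W R T O θ) (hW : W ≤ W₀) (hc : ∀ a ∈ W₀, ∀ b ∈ W₀, a * b = b * a) (hs : ∀ a ∈ W₀, a * a = 1)
    (hAW : A ≤ normalizer (W₀ : Set G)) (hb : Best W₀ A) (hAO : A ≤ O)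
    (four : 4 ≤ (centralizer (W₀ : Set G)).relIndex A)
    (m1 : ∀ a ∈ A, ∀ y ∈ Y, a * (y * θ * y⁻¹) * a⁻¹ * (y * θ * y⁻¹)⁻¹ ∈ R →
      a * (y * θ * y⁻¹) * a⁻¹ = y * θ * y⁻¹) : A ≤ centralizer (W : Set G) := by
  by_contra hm
  exact grp_dead hML box h (GAt.of_best hML h hW hc hs hAW hb hAO hm four m1).1

end Cfsg.Agent.Omega.NO3S.SN.ROne
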