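import Cfsg.Agent.Omega.ML.Final

/-!
# LightL at levels, `r = 1` (helper763 #23689): the group form of `SwR`, `AtR`

`Y` acts on the elementary abelian `W` by conjugation and centralises `R ≤ W`.

* `GSw Y W R T O θ` : the hypotheses of the reduction (69's `SwR`) for the image of `Y` in `Aut(W)`;
* `GAt Y W R O A θ` : `A ≤ O` acts on `W` as a minimal best offender, `|A : C_A(W)| ≥ 4`, and `A` centralises the
  conjugates of `θ` which it normalises modulo `R`.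
-/

set_option autoImplicit false

namespace Cfsg.Agent.Omega.NO3S.SN.ROne

open Subgroup Cfsg

universe u

variable {G : Type u} [Group G]

/-- **The group form of `SwR`.** -/
structure GSw (Y W R T O : Subgroup G) (θ : G) : Prop where
  kY : IsKGroup Y
  WY : Y ≤ normalizer (W : Set G)
  Wc : ∀ a ∈ W, ∀ b ∈ W, a * b = b * a
  Ws : ∀ a ∈ W, a * a = 1
  RW : R ≤ W
  RY : Y ≤ centralizer (R : Set G)
  faith : ∀ y ∈ Y, (∀ w ∈ W, y * w * y⁻¹ * w⁻¹ ∈ R) → y ∈ centralizer (W : Set G)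
  TY : T ≤ Y
  T2 : IsPGroup 2 T
  syl : ¬ 2 ∣ T.relIndex Y
  fixT : ∀ w ∈ W, (∀ t ∈ T, t * w * t⁻¹ = w) → w ∈ R
  θW : θ ∈ W
  θR : θ ∉ R
  Tθ : ∀ t ∈ T, t * θ * t⁻¹ * θ⁻¹ ∈ R
  gen : ∀ U : Subgroup G, R ≤ U → (∀ y ∈ Y, y * θ * y⁻¹ ∈ U) → W ≤ U
  OY : O ≤ Y
  O2 : IsPGroup 2 O
  Oθ : ∀ o ∈ O, o * θ * o⁻¹ * θ⁻¹ ∈ R
  On : ∀ y ∈ Y, y * θ * y⁻¹ * θ⁻¹ ∈ R → y ∈ normalizer (O : Set G)

/-- **`A` is a minimal best offender of order at least 4 in `O`**, type (c) absent. -/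
structure GAt (Y W R O A : Subgroup G) (θ : G) : Prop where
  AO : A ≤ O
  sq : ∀ a ∈ A, a * a ∈ centralizer (W : Set G)
  quad : ∀ a ∈ A, ∀ b ∈ A, ∀ w ∈ W, a * (b * w * b⁻¹ * w⁻¹) * a⁻¹ = b * w * b⁻¹ * w⁻¹
  four : 4 ≤ (centralizer (W : Set G)).relIndex A
  off : (centralizer (A : Set G)).relIndex W ≤ (centralizer (W : Set G)).relIndex A
  min : ∀ B : Subgroup G, A ⊓ centralizer (W : Set G) < B → B < A →
    (centralizer (W : Set G)).relIndex B < (centralizer (B : Set G)).relIndex W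
  m1 : ∀ a ∈ A, ∀ y ∈ Y, a * (y * θ * y⁻¹) * a⁻¹ * (y * θ * y⁻¹)⁻¹ ∈ R →
    a * (y * θ * y⁻¹) * a⁻¹ = y * θ * y⁻¹

end Cfsg.Agent.Omega.NO3S.SN.ROne
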