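import Cfsg.Agent.Omega.NO3S.SN.ROne.Mov
import Cfsg.Agent.Omega.NO3S.SN.R1.Faith

/-!
# `r = 1` (helper763 #23689): `Fr.key` and `Fr.faith` (helper358 #22753 (2)-(4))

* `Fr.key` : `[W_ik, Q_k] ∩ V ≤ ⟨z_k⟩` for all `i ≠ k`;
* `Fr.faith` : an element of `X_pq` trivial on `W_pq / V_pq` centralises `W_pq`.
-/

set_option autoImplicit false
set_option linter.unusedSectionVars false

namespace Cfsg.Agent.Omega.NO3S.SN.ROne

open Subgroup Cfsg Cfsg.Agent.ZN Cfsg.Agent.Omega.S5.Def Cfsg.Agent.Omega.NO3S.SN.R1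
open Cfsg.Agent.MinSimple.VModule
open Cfsg.Agent.Omega.NO3S.SN.R1.Faith (Mv Fam Cm mem_Cm Cm_conj UG_conj)

universe u

variable {G : Type u} [Group G] [Finite G] {n : ℕ} [NeZero n] {V W A : Subgroup G} {ε : (Fin n → ZMod 2) → G}
  {Q : Fin n → Subgroup G}

theorem Fr.fam (h : Fr V W ε Q) : Fam V ε Q where
  qc := h.QV
  qn i j k hij hik hjk := h.QX j k i hjk hij hik
  qs g σ hg i q hq := h.QL g σ hg i q hq

/-- `O₂(X_pq) ≤ N(V)` -/
theorem Fr.o2_le_norm (h : Fr V W ε Q) {p q : Fin n} (hp : p ≠ 0) (hq : q ≠ 0) (hpq : p ≠ q) :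
    o2 (YG ε {p, q}) ≤ normalizer (V : Set G) := by
  obtain ⟨T, -, hTN, hT2, hTs⟩ := h.syl p q hpq hp hq
  exact (o2_le_of_sylow hT2 hTs).trans hTN

theorem Fr.mv (h : Fr V W ε Q) {p q : Fin n} (hp : p ≠ 0) (hq : q ≠ 0) (hpq : p ≠ q) (hA : A ≤ Q p)
    (hc : Co W A Q p q) (hm : ¬ A ≤ centralizer (UG V ε {p, q} : Set G)) :
    ∃ T₀ : Subgroup G, Mv V ε W Q T₀ A p q := by
  have hf : Fact (Nat.Prime 2) := ⟨Nat.prime_two⟩
  obtain ⟨T⟩ : Nonempty (Sylow 2 (centralizer (V : Set G) : Subgroup G)) := inferInstance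
  have hTle : (T : Subgroup (centralizer (V : Set G) : Subgroup G)).map (centralizer (V : Set G)).subtype ≤
      centralizer (V : Set G) := map_subtype_le _
  have hTs : ¬ 2 ∣ ((T : Subgroup (centralizer (V : Set G) : Subgroup G)).map
      (centralizer (V : Set G)).subtype).relIndex (centralizer (V : Set G)) := by
    have e : ((T : Subgroup (centralizer (V : Set G) : Subgroup G)).map
        (centralizer (V : Set G)).subtype).subgroupOf (centralizer (V : Set G)) = T :=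
      comap_map_eq_self_of_injective (Subgroup.subtype_injective _) _
    rw [relIndex, e]
    exact Sylow.not_dvd_index T
  refine ⟨_, Mv.mk h.n5 h.ev h.Wc h.Ws ?_ ?_ h.fam (T.isPGroup'.map _) hTle ?_ hp hq hpq hA (hA.trans (h.Q_le_o2 p))
    ?_ ?_⟩
  · exact fun i j hi hj hij => h.UG_le hij hi hj
  · exact fun i j hi hj hij => h.WX i j hij hi hj
  · intro w hw ht
    refine h.cV _ hTle (T.isPGroup'.map _) hTs w hw fun t htt => ?_
    rw [ht t htt, mul_inv_cancel_right]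
  · intro hcon
    apply hm
    intro a ha
    have hle : UG V ε {p, q} ≤ centralizer ({a} : Set G) := by
      unfold UG
      rw [Cl, closure_le]
      rintro _ ⟨x, hx, v, hv, rfl⟩
      have h1 : x⁻¹ * a * x ∈ o2 (YG ε {p, q}) :=
        (mem_normalizer_iff''.1 (le_normalizer_o2 _ hx) a).1 (hcon ha)
      have h2 := h.m1 hp hq hpq hA hc hx ha (h.o2_le_norm hp hq hpq h1)
      have h3 := mem_centralizer_iff.1 h2 v hv
      rw [SetLike.mem_coe, mem_centralizer_singleton_iff]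
      calc x * v * x⁻¹ * a = x * (v * (x⁻¹ * a * x)) * x⁻¹ := by group
        _ = x * (x⁻¹ * a * x * v) * x⁻¹ := by rw [h3]
        _ = a * (x * v * x⁻¹) := by group
    rw [mem_centralizer_iff]
    exact fun w hw => mem_centralizer_singleton_iff.1 (hle hw)
  · exact fun k hk0 hkp hkq e he w hw κ hκ => hc k hk0 hkp hkq e he w hw κ hκ

/-- **`[W_ik, Q_k] ∩ V ≤ ⟨z_k⟩`** -/
theorem Fr.key (h : Fr V W ε Q) {p q : Fin n} (hp : p ≠ 0) (hq : q ≠ 0) (hpq : p ≠ q) (hA : A ≤ Q p)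
    (hc : Co W A Q p q) (hm : ¬ A ≤ centralizer (UG V ε {p, q} : Set G)) :
    ∀ i k : Fin n, i ≠ k → ∀ v ∈ V,
      v ∈ closure {x | ∃ κ ∈ Q k, ∃ u ∈ UG V ε {i, k}, x = κ * u * κ⁻¹ * u⁻¹} → v = 1 ∨ v = zz ε k := by
  obtain ⟨T₀, m⟩ := h.mv hp hq hpq hA hc hm
  intro i k hik v hv hvc
  have hvc' : v ∈ Cm (UG V ε {i, k}) (Q k) := hvc
  -- a permutation `k ↦ p`, `i ↦ q`
  obtain ⟨σ, e1, e2⟩ : ∃ σ : Equiv.Perm (Fin n), σ k = p ∧ σ i = q := by
    refine ⟨Equiv.swap (Equiv.swap k p i) q * Equiv.swap k p, ?_, ?_⟩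
    · rw [Equiv.Perm.mul_apply, Equiv.swap_apply_left]
      refine Equiv.swap_apply_of_ne_of_ne (fun h1 => ?_) hpq
      have h2 : Equiv.swap k p i = Equiv.swap k p k := by rw [Equiv.swap_apply_left, ← h1]
      exact hik ((Equiv.swap k p).injective h2)
    · rw [Equiv.Perm.mul_apply, Equiv.swap_apply_left]
  obtain ⟨g, hg, hσ⟩ := h.ev.full σ
  have h1 : g * v * g⁻¹ ∈ Cm (UG V ε {p, q}) (Q p) := by
    refine Cm_conj (fun w hw => ?_) (fun κ hκ => ?_) hvc'
    · rw [Finset.pair_comm]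
      exact UG_conj h.ev hσ e2 e1 hw
    · have h2 := h.QL g σ hσ k κ hκ
      rwa [e1] at h2
  have h2 := m.P _ h1 ((mem_normalizer_iff.1 hg v).1 hv)
  have e3 : g * zz ε k * g⁻¹ = zz ε p := by
    change g * ε (Pi.single k 1) * g⁻¹ = ε (Pi.single p 1)
    rw [hσ.single, e1]
  rcases h2 with h3 | h3
  · left
    calc v = g⁻¹ * (g * v * g⁻¹) * g := by group
      _ = 1 := by rw [h3]; group
  · right
    calc v = g⁻¹ * (g * v * g⁻¹) * g := by group
      _ = g⁻¹ * (g * zz ε k * g⁻¹) * g := by rw [h3, e3]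
      _ = zz ε k := by group

/-- a minimal best offender of order at least four has `|[w, A]| ≠ 2` -/
theorem best_two {W A : Subgroup G} {z : G} (hB : Best W A) (h4 : 4 ≤ (centralizer (W : Set G)).relIndex A)
    (hzA : ∀ a ∈ A, a * z = z * a) (hz : z * z = 1)
    {w : G} (hw : w ∈ W)
    (h2 : ∀ a ∈ A, a * w * a⁻¹ * w⁻¹ = 1 ∨ a * w * a⁻¹ * w⁻¹ = z) : ∀ a ∈ A, a * w = w * a := by
  classical
  by_contra hcon
  push Not at hcon
  obtain ⟨s, hs, hsw⟩ := hcon
  set B : Subgroup G := A ⊓ centralizer ({w} : Set G) with hBd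
  have hmB : ∀ a, a ∈ B ↔ a ∈ A ∧ a * w = w * a := by
    intro a
    rw [hBd, mem_inf, mem_centralizer_singleton_iff]
  have hsB : s ∉ B := fun h => hsw ((hmB s).1 h).2
  have hcomm : ∀ a ∈ A, a ∉ B → a * w * a⁻¹ = z * w := by
    intro a ha haB
    rcases h2 a ha with h3 | h3
    · exfalso
      apply haB
      rw [hmB]
      refine ⟨ha, ?_⟩
      calc a * w = (a * w * a⁻¹ * w⁻¹) * (w * a) := by group
        _ = w * a := by rw [h3, one_mul]
    · rw [← h3]; group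
  have hmul : ∀ a ∈ A, a ∉ B → a * s ∈ B := by
    intro a ha haB
    rw [hmB]
    refine ⟨mul_mem ha hs, ?_⟩
    have h3 : (a * s) * w * (a * s)⁻¹ = w := by
      calc (a * s) * w * (a * s)⁻¹ = a * (s * w * s⁻¹) * a⁻¹ := by group
        _ = a * (z * w) * a⁻¹ := by rw [hcomm s hs hsB]
        _ = (a * z) * w * a⁻¹ := by group
        _ = z * (a * w * a⁻¹) := by rw [hzA a ha]; group
        _ = (z * z) * w := by rw [hcomm a ha haB]; group
        _ = w := by rw [hz, one_mul]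
    calc (a * s) * w = (a * s) * w * (a * s)⁻¹ * (a * s) := by group
      _ = w * (a * s) := by rw [h3]
  have hidx : B.relIndex A = 2 := by
    rw [relIndex, index_eq_two_iff]
    refine ⟨⟨s, hs⟩, fun b => ?_⟩
    by_cases hb : (b : G) ∈ B
    · right
      refine ⟨hb, fun h1 => hsB ?_⟩
      have h3 : (b : G) * s ∈ B := h1
      have h4 := mul_mem (inv_mem hb) h3
      rwa [inv_mul_cancel_left] at h4
    · exact Or.inl ⟨hmul b b.2 hb, hb⟩
  have hBA : B < A := lt_of_le_of_ne inf_le_left fun h => hsB (by rw [h]; exact hs)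
  have hCB : A ⊓ centralizer (W : Set G) ≤ B := fun x hx => (hmB x).2
    ⟨hx.1, (mem_centralizer_iff.1 hx.2 w hw).symm⟩
  rcases hCB.lt_or_eq with hlt | heq
  · have h3 := hB.min B hlt hBA
    rw [hidx] at h3
    have h4 : (centralizer (A : Set G)).relIndex (W ⊓ centralizer (B : Set G)) = 1 := by
      have h5 : (centralizer (A : Set G)).relIndex (W ⊓ centralizer (B : Set G)) ≠ 0 := index_ne_zero_of_finite
      omega
    have h5 := relIndex_eq_one.1 h4
    have h6 : w ∈ W ⊓ centralizer (B : Set G) :=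
      ⟨hw, mem_centralizer_iff.2 fun x hx => ((hmB x).1 hx).2⟩
    exact hsw (mem_centralizer_iff.1 (h5 h6) s hs)
  · have h3 : (A ⊓ centralizer (W : Set G)).relIndex A = (centralizer (W : Set G)).relIndex A :=
      inf_relIndex_left A _
    rw [← h3, heq, hidx] at h4
    omega

/-- **`X_pq` is faithful on `W_pq / V_pq` modulo `C(W_pq)`.** -/
theorem Fr.faith (h : Fr V W ε Q) {p q : Fin n} (hp : p ≠ 0) (hq : q ≠ 0) (hpq : p ≠ q) (hA : A ≤ Q p)
    (hc : Co W A Q p q) (hm : ¬ A ≤ centralizer (UG V ε {p, q} : Set G)) (hB : Best W A)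
    (h4 : 4 ≤ (centralizer (W : Set G)).relIndex A) :
    ∀ y ∈ YG ε {p, q}, (∀ w ∈ UG V ε {p, q}, y * w * y⁻¹ * w⁻¹ ∈ VG ε {p, q}) →
      y ∈ centralizer (UG V ε {p, q} : Set G) := by
  obtain ⟨T₀, m⟩ := h.mv hp hq hpq hA hc hm
  intro y hy hyw
  have hAV : A ≤ centralizer (V : Set G) := hA.trans (h.QV p)
  refine m.faith (fun w hw h2 => ?_) hy hyw
  refine best_two hB h4 (fun a ha => ?_) (h.ev.sq _) hw h2
  exact (mem_centralizer_iff.1 (hAV ha) _ (h.ev.mem _)).symm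

end Cfsg.Agent.Omega.NO3S.SN.ROne
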