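import Cfsg.Agent.Omega.NO3S.SN.ROne.OfR
import Cfsg.Agent.Omega.NO3S.SN.ROne.Best
import Cfsg.Agent.Omega.NO3S.SN.ROne.KeyF

/-!
# `r = 1` is dead (helper763 #23689)

* `Fr.dead` : in the frame `ROne.Fr`, `A ≤ Q p` a minimal best offender on `W`, `|A : C_A(W)| ≥ 4`, `[W, A]` centralised by
  `Q k`, `k ∉ {0, p, q}` ⟹ `A` centralises `U_pq`;
* **`r_one`** : in 695's frame `RTwo.Fr`, a minimal best offender `A ≤ O₂(M^(p))` of order `≥ 4` centralises all `W_ij`;
* **`h_zero`** : the same for `At W A`, `A ≤ QQ_p` (695's (H0)).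
-/

set_option autoImplicit false
set_option linter.unusedSectionVars false

namespace Cfsg.Agent.Omega.NO3S.SN.ROne

open Subgroup Cfsg Cfsg.Agent.ZN Cfsg.Agent.Omega.S5.Def Cfsg.Agent.Omega.NO3S.SN.R1
open Cfsg.Agent.Omega.NO3S.SN.RTwo (PM PY PU WI At QQ fW)
open Cfsg.Agent.Omega.FOne.QR (SwR AtR)
open Cfsg.Agent.MinSimple.VModule
open scoped Pointwise

universe u

/-- the black box -/
def Box : Prop := ∀ (X : Type u) [Group X] (M : Type u) [AddCommGroup M] [DistribMulAction X M] (R : AddSubgroup M)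
  (θ : M) (T N B : Subgroup X), SwR R θ T N → AtR R N B → False

variable {G : Type u} [Group G] [Finite G] {n : ℕ} [NeZero n] {V W A : Subgroup G} {ε : (Fin n → ZMod 2) → G}
  {Q : Fin n → Subgroup G}

theorem Fr.dead (hML : ML.Final.MLK.{u, u}) (box : Box.{u}) (h : Fr V W ε Q) {p q : Fin n} (hp : p ≠ 0) (hq : q ≠ 0)
    (hpq : p ≠ q) (hA : A ≤ Q p) (hc : ¬ A ≤ centralizer (UG V ε {p, q} : Set G) → Co W A Q p q) (hB : Best W A)
    (four : 4 ≤ (centralizer (W : Set G)).relIndex A) : A ≤ centralizer (UG V ε {p, q} : Set G) := by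
  by_contra hm
  have hc' := hc hm
  obtain ⟨T, hT⟩ := h.gsw hp hq hpq (h.faith hp hq hpq hA hc' hm hB four)
  exact hm (best_dead hML box hT (h.UG_le hpq hp hq) h.Wc h.Ws ((hA.trans (h.QV p)).trans h.cent_W) hB
    (hA.trans (h.Q_le_o2 p)) four (h.gm1 hp hq hpq hA hc'))

/-- **`r = 1` is dead.** -/
theorem r_one (hML : ML.Final.MLK.{u, u}) (box : Box.{u}) (h : RTwo.Fr V W ε) {p : Fin n} (hp : p ≠ 0)
    (hA : A ≤ o2 (PM V ε p)) (hB : Best W A) (four : 4 ≤ (centralizer (W : Set G)).relIndex A) {i j : Fin n}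
    (hi : i ≠ 0) (hj : j ≠ 0) (hij : i ≠ j) : A ≤ centralizer (WI V ε i j : Set G) := by
  have hF := fr_of h
  have key : ∀ q : Fin n, q ≠ 0 → p ≠ q → A ≤ centralizer (UG V ε {p, q} : Set G) := fun q hq hpq =>
    hF.dead hML box hp hq hpq hA (fun hm => co_of h hML hp hq hpq hA hB hm) hB four
  by_cases h1 : p = i
  · subst h1
    exact key j hj hij
  · by_cases h2 : p = j
    · subst h2
      have h3 := key i hi (Ne.symm hij)
      rwa [Finset.pair_comm] at h3
    · exact hA.trans (hF.Q_cent hij h1 h2)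

/-! ### The bridge to 695's atoms -/

omit [Finite G] in
/-- `|H K : K| = |H : H ∩ K|` for `K` normalised by `H`. -/
theorem rel_sup {K H : Subgroup G} (h : H ≤ normalizer (K : Set G)) : K.relIndex (H ⊔ K) = K.relIndex H := by
  have hKn : (K.subgroupOf (K ⊔ H)).Normal :=
    normal_subgroupOf_of_le_normalizer (sup_le le_normalizer h)
  have h1 := relIndex_sup_left (H.subgroupOf (K ⊔ H)) (K.subgroupOf (K ⊔ H))
  rw [← Subgroup.subgroupOf_sup le_sup_left le_sup_right, Subgroup.subgroupOf_self,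
    Subgroup.relIndex_subgroupOf le_sup_right, relIndex_top_right] at h1
  rw [sup_comm, ← h1]
  rfl

omit [Finite G] in
theorem mem_sup_of_norm {K H : Subgroup G} (h : H ≤ normalizer (K : Set G)) {x : G} (hx : x ∈ H ⊔ K) :
    ∃ a ∈ H, ∃ c ∈ K, x = a * c := by
  have h1 : ((H ⊔ K : Subgroup G) : Set G) = (H : Set G) * (K : Set G) := coe_mul_of_left_le_normalizer_right _ _ h
  have h2 : x ∈ (H : Set G) * (K : Set G) := by
    rw [← h1]
    exact hx
  obtain ⟨a, ha, c, hc, e⟩ := Set.mem_mul.1 h2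
  exact ⟨a, ha, c, hc, e.symm⟩

/-- `A ≥ K`, `A ≤ P K`: `A = (A ∩ P) K` -/
theorem eq_sup_of_le {K P A : Subgroup G} (hP : P ≤ normalizer (K : Set G)) (hK : K ≤ A) (hA : A ≤ P ⊔ K) :
    A = A ⊓ P ⊔ K := by
  refine le_antisymm (fun x hx => ?_) (sup_le inf_le_left hK)
  obtain ⟨a, ha, c, hc, rfl⟩ := mem_sup_of_norm hP (hA hx)
  refine mul_mem (mem_sup_left ⟨?_, ha⟩) (mem_sup_right hc)
  exact (mul_mem_cancel_right (hK hc)).1 hx

theorem fW_eq {W A : Subgroup G} (hK : centralizer (W : Set G) ≤ A) :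
    fW W A * (centralizer (A : Set G)).relIndex W =
      Nat.card ↥(centralizer (W : Set G)) * Nat.card W * (centralizer (W : Set G)).relIndex A := by
  have h1 : Nat.card ↥(centralizer (W : Set G)) * (centralizer (W : Set G)).relIndex A = Nat.card A :=
    Lib.SylowNormalInf.card_mul_relIndex _ _ hK
  have h2 : Nat.card ↥(W ⊓ centralizer (A : Set G)) * (W ⊓ centralizer (A : Set G)).relIndex W = Nat.card W :=
    Lib.SylowNormalInf.card_mul_relIndex _ _ inf_le_left
  have h3 : (W ⊓ centralizer (A : Set G)).relIndex W = (centralizer (A : Set G)).relIndex W := by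
    rw [inf_comm, inf_relIndex_right]
  rw [h3] at h2
  rw [fW, ← h1, ← h2]
  ring

omit [Finite G] in
theorem cent_sup {W A : Subgroup G} : W ⊓ centralizer ((A ⊔ centralizer (W : Set G) : Subgroup G) : Set G) =
    W ⊓ centralizer (A : Set G) := by
  ext x
  rw [mem_inf, mem_inf, and_congr_right_iff]
  intro hx
  constructor
  · intro h
    exact centralizer_le (show A ≤ A ⊔ centralizer (W : Set G) from le_sup_left) h
  · intro h
    have h1 : A ⊔ centralizer (W : Set G) ≤ centralizer ({x} : Set G) := by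
      refine sup_le ?_ ?_
      · intro a ha
        rw [mem_centralizer_singleton_iff]
        exact mem_centralizer_iff.1 h a ha
      · intro c hc
        rw [mem_centralizer_singleton_iff]
        exact (mem_centralizer_iff.1 hc x hx).symm
    refine mem_centralizer_iff.2 fun y hy => ?_
    exact mem_centralizer_singleton_iff.1 (h1 hy)

/-- an atom in 695's sense gives a minimal best offender -/
theorem best_of_at {W P A : Subgroup G} (hP : P ≤ normalizer (W : Set G)) (h : At W A)
    (hA : A ≤ P ⊔ centralizer (W : Set G)) : Best W (A ⊓ P) ∧ A = A ⊓ P ⊔ centralizer (W : Set G) ∧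
      (centralizer (W : Set G)).relIndex (A ⊓ P) = (centralizer (W : Set G)).relIndex A := by
  have hPK : P ≤ normalizer (centralizer (W : Set G) : Set G) := fun g hg => norm_cent (hP hg)
  have hAe := eq_sup_of_le hPK h.le hA
  have hN : ∀ B : Subgroup G, B ≤ A ⊓ P → B ≤ normalizer (centralizer (W : Set G) : Set G) := fun B hB =>
    (hB.trans inf_le_right).trans hPK
  have hfix : ∀ B : Subgroup G, (centralizer ((B ⊔ centralizer (W : Set G) : Subgroup G) : Set G)).relIndex W =
      (centralizer (B : Set G)).relIndex W := by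
    intro B
    rw [← inf_relIndex_right, ← inf_relIndex_right (centralizer (B : Set G)), inf_comm, cent_sup, inf_comm]
  have hrel : ∀ B : Subgroup G, B ≤ A ⊓ P → (centralizer (W : Set G)).relIndex (B ⊔ centralizer (W : Set G)) =
      (centralizer (W : Set G)).relIndex B := fun B hB => rel_sup (hN B hB)
  have hcA : (centralizer (W : Set G)).relIndex (A ⊓ P) = (centralizer (W : Set G)).relIndex A := by
    rw [← hrel _ le_rfl, ← hAe]
  have hfA : (centralizer ((A ⊓ P : Subgroup G) : Set G)).relIndex W = (centralizer (A : Set G)).relIndex W := by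
    rw [← hfix, ← hAe]
  have p1 : 0 < Nat.card ↥(centralizer (W : Set G)) * Nat.card W := Nat.mul_pos Nat.card_pos Nat.card_pos
  have hex : (centralizer (A : Set G)).relIndex W = (centralizer (W : Set G)).relIndex A := by
    have h1 := fW_eq h.le
    rw [h.tight] at h1
    exact Nat.eq_of_mul_eq_mul_left p1 h1
  refine ⟨⟨⟨fun a ha => h.el.sq a ha.1, fun a ha b hb => h.el.comm a ha.1 b hb.1⟩, ?_, ?_, ?_⟩, hAe, hcA⟩
  · intro hc
    apply h.ne
    rw [hAe]
    exact sup_le hc le_rfl
  · rw [hfA, hcA, hex]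
  · intro B hB1 hB2
    set B' : Subgroup G := B ⊔ centralizer (W : Set G) with hB'
    have hBP : B ≤ A ⊓ P := hB2.le
    have hBB : B' ⊓ (A ⊓ P) = B := by
      refine le_antisymm ?_ (le_inf le_sup_left hBP)
      rintro x ⟨hx1, hx2⟩
      obtain ⟨b, hb, c, hc, rfl⟩ := mem_sup_of_norm (hN B hBP) hx1
      refine mul_mem hb (hB1.le ⟨?_, hc⟩)
      exact (mul_mem_cancel_left (hBP hb)).1 hx2
    have h1 : centralizer (W : Set G) < B' := by
      refine lt_of_le_of_ne le_sup_right fun e => ?_
      have h2 : B ≤ A ⊓ P ⊓ centralizer (W : Set G) := le_inf hBP (by rw [e]; exact le_sup_left)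
      exact absurd (h2.antisymm hB1.le) hB1.ne'
    have hB'A : B' ≤ A := sup_le (hBP.trans inf_le_left) h.le
    have h2 : B' < A := by
      refine lt_of_le_of_ne hB'A fun e => hB2.ne ?_
      rw [← hBB, e, ← inf_assoc, inf_idem]
    have h3 := h.min B' h1 h2
    have h4 := fW_eq h1.le
    rw [hfix B, hrel B hBP] at h4
    -- `|C(W) rel B| < |W : C_W(B)|`
    have h5 : (centralizer (W : Set G)).relIndex B < (centralizer (B : Set G)).relIndex W := by
      have p2 : 0 < (centralizer (B : Set G)).relIndex W := Nat.pos_of_ne_zero index_ne_zero_of_finite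
      have h6 : Nat.card ↥(centralizer (W : Set G)) * Nat.card W * (centralizer (W : Set G)).relIndex B <
          Nat.card ↥(centralizer (W : Set G)) * Nat.card W * (centralizer (B : Set G)).relIndex W := by
        rw [← h4]
        exact Nat.mul_lt_mul_of_pos_right h3 p2
      exact Nat.lt_of_mul_lt_mul_left h6
    -- multiply
    have h6 := cen_mul (W := W) (A := A ⊓ P) hB1.le hBP
    have h7 := fix_mul (W := W) (A := A ⊓ P) hBP
    rw [hcA] at h6
    rw [hfA, hex, ← h6] at h7
    have p3 : 0 < (centralizer (W : Set G)).relIndex B := Nat.pos_of_ne_zero index_ne_zero_of_finite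
    have p4 : 0 < (centralizer ((A ⊓ P : Subgroup G) : Set G)).relIndex (W ⊓ centralizer (B : Set G)) :=
      Nat.pos_of_ne_zero index_ne_zero_of_finite
    by_contra hcon
    rw [not_lt] at hcon
    have h8 : (centralizer (W : Set G)).relIndex B * B.relIndex (A ⊓ P) ≤
        (centralizer (W : Set G)).relIndex B *
          (centralizer ((A ⊓ P : Subgroup G) : Set G)).relIndex (W ⊓ centralizer (B : Set G)) :=
      Nat.mul_le_mul_left _ hcon
    have h9 : (centralizer (W : Set G)).relIndex B *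
          (centralizer ((A ⊓ P : Subgroup G) : Set G)).relIndex (W ⊓ centralizer (B : Set G)) <
        (centralizer (B : Set G)).relIndex W *
          (centralizer ((A ⊓ P : Subgroup G) : Set G)).relIndex (W ⊓ centralizer (B : Set G)) :=
      Nat.mul_lt_mul_of_pos_right h5 p4
    have h10 := mul_comm ((centralizer (B : Set G)).relIndex W)
      ((centralizer ((A ⊓ P : Subgroup G) : Set G)).relIndex (W ⊓ centralizer (B : Set G)))
    omega

/-- **(H0) of #24008**: every atom of order `≥ 4` in `QQ_p`, `p ≠ 0`, centralises all `W_ij` -/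
theorem h_zero (hML : ML.Final.MLK.{u, u}) (box : Box.{u}) (h : RTwo.Fr V W ε) {p : Fin n} (hp : p ≠ 0)
    (hA : A ≤ QQ V W ε p) (hAt : At W A) (four : 4 ≤ (centralizer (W : Set G)).relIndex A) {i j : Fin n}
    (hi : i ≠ 0) (hj : j ≠ 0) (hij : i ≠ j) : A ≤ centralizer (WI V ε i j : Set G) := by
  have hF := fr_of h
  obtain ⟨h1, h2, h3⟩ := best_of_at (P := o2 (PM V ε p)) ((hF.QV p).trans hF.cent_W) hAt hA
  rw [h2]
  refine sup_le ?_ (centralizer_le (hF.UG_le hij hi hj))
  exact r_one hML box h hp inf_le_right h1 (by rwa [h3]) hi hj hij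

end Cfsg.Agent.Omega.NO3S.SN.ROne
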