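import Cfsg.Agent.Omega.NO3S.SN.ROne.Def
import Cfsg.Agent.Omega.FOne.QR.OfE
import Cfsg.Agent.MinSimple.VModule

/-!
# LightL at levels, `r = 1` (helper763 #23689): from groups to modules

* `GSw.sw` : the image of `Y` in `Aut(W)`, acting on `Additive W`, satisfies `SwR`.
-/

set_option autoImplicit false
set_option linter.unusedSectionVars false

namespace Cfsg.Agent.Omega.NO3S.SN.ROne

open Subgroup Cfsg
open Cfsg.Agent.Omega.FOne.QR (SwR AtR FsR LaR cmR fxW)

universe u

variable {G : Type u} [Group G] {Y W R T O A : Subgroup G} {θ : G}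

/-- the action of `Y` on `W` by conjugation -/
def phi (h : Y ≤ normalizer (W : Set G)) : Y →* MulAut W := (normalizerMonoidHom W).comp (inclusion h)

theorem phi_coe (h : Y ≤ normalizer (W : Set G)) (y : Y) (w : W) :
    ((phi h y w : W) : G) = (y : G) * w * (y : G)⁻¹ := rfl

/-- the image of `Y` in `Aut(W)` -/
abbrev Im (h : Y ≤ normalizer (W : Set G)) : Subgroup (MulAut W) := (phi h).range

/-- `W` is commutative -/
@[reducible] def cgr (h : ∀ a ∈ W, ∀ b ∈ W, a * b = b * a) : CommGroup W :=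
  { (inferInstance : Group W) with mul_comm := fun a b => Subtype.ext (h a a.2 b b.2) }

/-- the action of the image of `Y` on `W`, additively -/
@[reducible] def actI (h : Y ≤ normalizer (W : Set G)) (hc : ∀ a ∈ W, ∀ b ∈ W, a * b = b * a) :
    @DistribMulAction (Im h) (Additive W) _ (@Additive.addCommGroup W (cgr hc)).toAddGroup.toSubNegMonoid.toAddMonoid :=
  let _ := cgr hc
  { smul := fun x w => Additive.ofMul ((x : MulAut W) (Additive.toMul w))
    one_smul := fun _ => rfl
    mul_smul := fun _ _ _ => rfl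
    smul_zero := fun x => congrArg Additive.ofMul (map_one (x : MulAut W))
    smul_add := fun x v w => congrArg Additive.ofMul (map_mul (x : MulAut W) (Additive.toMul v) (Additive.toMul w)) }

/-- the image of a subgroup -/
def img (h : Y ≤ normalizer (W : Set G)) (B : Subgroup G) : Subgroup (Im h) :=
  (B.subgroupOf Y).map (phi h).rangeRestrict

theorem mem_img (h : Y ≤ normalizer (W : Set G)) {B : Subgroup G} {x : Im h} :
    x ∈ img h B ↔ ∃ y : Y, (y : G) ∈ B ∧ (phi h).rangeRestrict y = x := Iff.rfl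

theorem rr_eq_one (h : Y ≤ normalizer (W : Set G)) {y : Y} :
    (phi h).rangeRestrict y = 1 ↔ (y : G) ∈ centralizer (W : Set G) := by
  constructor
  · intro e
    refine mem_centralizer_iff.2 fun w hw => ?_
    have h1 : phi h y = 1 := congrArg Subtype.val e
    have h2 : (y : G) * w * (y : G)⁻¹ = w := by
      have h3 : ((phi h y ⟨w, hw⟩ : W) : G) = w := by rw [h1]; rfl
      exact h3
    rw [← h2, inv_mul_cancel_right, h2]
  · intro hy
    apply Subtype.ext
    ext w
    change (y : G) * w * (y : G)⁻¹ = w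
    rw [← mem_centralizer_iff.1 hy _ w.2, mul_inv_cancel_right]

/-- `|image of B| = |B : C_B(W)|` -/
theorem card_img (h : Y ≤ normalizer (W : Set G)) {B : Subgroup G} (hB : B ≤ Y) :
    Nat.card (img h B) = (centralizer (W : Set G)).relIndex B := by
  let f : B →* Im h := (phi h).rangeRestrict.comp (inclusion hB)
  have h1 : f.range = img h B := by
    ext x
    constructor
    · rintro ⟨b, rfl⟩
      exact (mem_img h).2 ⟨inclusion hB b, b.2, rfl⟩
    · rintro ⟨y, hy, rfl⟩
      exact ⟨⟨y, hy⟩, rfl⟩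
  have h2 : f.ker = (centralizer (W : Set G)).subgroupOf B := by
    ext b
    rw [MonoidHom.mem_ker, mem_subgroupOf]
    exact rr_eq_one h
  rw [← h1, ← index_ker, h2]
  rfl

/-- `|W : C_W(image of B)| = |W : C_W(B)|` -/
theorem index_fxW (h : Y ≤ normalizer (W : Set G)) (hc : ∀ a ∈ W, ∀ b ∈ W, a * b = b * a) {B : Subgroup G}
    (hB : B ≤ Y) :
    (@fxW (Im h) _ (Additive W) (@Additive.addCommGroup W (cgr hc)) (actI h hc) (img h B)).index =
      (centralizer (B : Set G)).relIndex W := by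
  let _ := cgr hc
  let _ := actI h hc
  have h1 : AddSubgroup.toSubgroup' (fxW (img h B) : AddSubgroup (Additive W)) =
      (centralizer (B : Set G)).subgroupOf W := by
    ext w
    rw [mem_subgroupOf, mem_centralizer_iff]
    constructor
    · intro hw b hb
      have h2 : b * (w : G) * b⁻¹ = w := by
        have h3 := hw ((phi h).rangeRestrict ⟨b, hB hb⟩) ((mem_img h).2 ⟨_, hb, rfl⟩)
        exact congrArg (fun v : Additive W => ((Additive.toMul v : W) : G)) h3
      exact mul_inv_eq_iff_eq_mul.1 h2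
    · rintro hw _ ⟨b, hb, rfl⟩
      apply congrArg Additive.ofMul
      apply Subtype.ext
      change (b : G) * w * (b : G)⁻¹ = w
      exact mul_inv_eq_iff_eq_mul.2 (hw b hb)
  have h2 : (AddSubgroup.toSubgroup' (fxW (img h B) : AddSubgroup (Additive W))).index =
      (centralizer (B : Set G)).relIndex W := by
    rw [h1]
    rfl
  exact h2

/-- `R`, additively -/
def adR (W R : Subgroup G) (hc : ∀ a ∈ W, ∀ b ∈ W, a * b = b * a) :
    @AddSubgroup (Additive W) (@Additive.addCommGroup W (cgr hc)).toAddGroup :=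
  let _ := cgr hc
  Subgroup.toAddSubgroup (R.subgroupOf W)

theorem GSw.inv (h : GSw Y W R T O θ) {w : G} (hw : w ∈ W) : w⁻¹ = w := inv_eq_of_mul_eq_one_left (h.Ws w hw)

/-- **`SwR` for the image of `Y`.** -/
theorem GSw.sw [Finite G] (h : GSw Y W R T O θ) :
    @SwR (Im h.WY) _ (Additive W) (@Additive.addCommGroup W (cgr h.Wc)) (actI h.WY h.Wc) (adR W R h.Wc)
      (Additive.ofMul ⟨θ, h.θW⟩) (img h.WY T) (img h.WY O) := by
  let _ := cgr h.Wc
  let _ := actI h.WY h.Wc
  have hs : Function.Surjective (phi h.WY).rangeRestrict := (phi h.WY).rangeRestrict_surjective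
  have hs2 : Function.Surjective ((phi h.WY).rangeRestrict.comp (topEquiv (G := Y)).toMonoidHom) := by
    intro x
    obtain ⟨y, rfl⟩ := hs x
    exact ⟨⟨y, mem_top y⟩, rfl⟩
  let ι : Additive W → G := fun w => ((Additive.toMul w : W) : G)
  have ιinj : ∀ v w, ι v = ι w → v = w := fun v w h => congrArg Additive.ofMul (Subtype.ext h : Additive.toMul v = Additive.toMul w)
  have ιadd : ∀ v w, ι (v + w) = ι v * ι w := fun _ _ => rfl
  have ιsm : ∀ (y : Y) (w : Additive W), ι ((phi h.WY).rangeRestrict y • w) = (y : G) * ι w * (y : G)⁻¹ := fun _ _ => rfl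
  have ιW : ∀ w, ι w ∈ W := fun w => (Additive.toMul w : W).2
  have hR' : ∀ w : Additive W, w ∈ adR W R h.Wc ↔ ι w ∈ R := fun _ => Iff.rfl
  have hcr : ∀ (y : Y) (w : Additive W), (phi h.WY).rangeRestrict y • w + w ∈ adR W R h.Wc ↔
      (y : G) * ι w * (y : G)⁻¹ * (ι w)⁻¹ ∈ R := by
    intro y w
    rw [hR', ιadd, ιsm, h.inv (ιW w)]
  refine
    { known := ML.Final.kgroup_of_surj h.kY ⊤ _ hs2
      finX := inferInstance
      finW := inferInstance
      two := fun w => ιinj _ _ (h.Ws _ (ιW w))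
      fixR := ?_
      faith := ?_
      T2 := (h.T2.comap_subtype (K := Y)).map _
      syl := fun h2 => h.syl (h2.trans (index_map_dvd _ hs))
      fixT := ?_
      θR := h.θR
      Tθ := ?_
      gen := ?_
      N2 := (h.O2.comap_subtype (K := Y)).map _
      Nθ := ?_
      Nn := ?_ }
  · intro x r hr
    obtain ⟨y, rfl⟩ := hs x
    apply ιinj
    rw [ιsm, ← mem_centralizer_iff.1 (h.RY y.2) _ ((hR' r).1 hr), mul_inv_cancel_right]
  · intro x hx
    obtain ⟨y, rfl⟩ := hs x
    have h1 : (y : G) ∈ centralizer (W : Set G) := h.faith y y.2 fun w hw => (hcr y (Additive.ofMul ⟨w, hw⟩)).1 (hx _)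
    apply Subtype.ext
    ext w
    change (y : G) * w * (y : G)⁻¹ = w
    rw [← mem_centralizer_iff.1 h1 _ w.2, mul_inv_cancel_right]
  · intro w hw
    refine h.fixT _ (ιW w) fun t ht => ?_
    exact congrArg ι (hw ((phi h.WY).rangeRestrict ⟨t, h.TY ht⟩) ((mem_img h.WY).2 ⟨_, ht, rfl⟩))
  · rintro _ ⟨y, hy, rfl⟩
    exact (hcr y _).2 (h.Tθ y hy)
  · intro U hRU hU
    rw [eq_top_iff]
    rintro w -
    let S : Subgroup G :=
      { carrier := {g | ∃ u ∈ U, ι u = g}
        one_mem' := ⟨0, U.zero_mem, rfl⟩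
        mul_mem' := by
          rintro _ _ ⟨u, hu, rfl⟩ ⟨v, hv, rfl⟩
          exact ⟨u + v, U.add_mem hu hv, rfl⟩
        inv_mem' := by
          rintro _ ⟨u, hu, rfl⟩
          exact ⟨u, hu, (h.inv (ιW u)).symm⟩ }
    have h1 : W ≤ S := by
      refine h.gen S ?_ ?_
      · intro r hr
        exact ⟨Additive.ofMul ⟨r, h.RW hr⟩, hRU hr, rfl⟩
      · intro y hy
        exact ⟨_, hU ((phi h.WY).rangeRestrict ⟨y, hy⟩), rfl⟩
    obtain ⟨u, hu, e⟩ := h1 (ιW w)
    rw [← ιinj _ _ e]
    exact hu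
  · rintro _ ⟨y, hy, rfl⟩
    exact (hcr y _).2 (h.Oθ y hy)
  · intro x hx
    obtain ⟨y, rfl⟩ := hs x
    have h1 : (y : G) ∈ normalizer (O : Set G) := h.On y y.2 ((hcr y _).1 hx)
    rintro _ ⟨o, ho, rfl⟩
    refine (mem_img h.WY).2 ⟨y * o * y⁻¹, (mem_normalizer_iff.1 h1 _).1 ho, ?_⟩
    rw [map_mul, map_mul, map_inv]

/-- **An atom of `W / R`.** -/
theorem GSw.exists_at [Finite G] (hML : ML.Final.MLK.{u, u}) (h : GSw Y W R T O θ) (a : GAt Y W R O A θ) :
    ∃ B, @AtR (Im h.WY) _ (Additive W) (@Additive.addCommGroup W (cgr h.Wc)) (actI h.WY h.Wc) (adR W R h.Wc)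
      (img h.WY O) B := by
  have S := h.sw
  let _ := cgr h.Wc
  let _ := actI h.WY h.Wc
  have hs : Function.Surjective (phi h.WY).rangeRestrict := (phi h.WY).rangeRestrict_surjective
  let ι : Additive W → G := fun w => ((Additive.toMul w : W) : G)
  have ιinj : ∀ v w, ι v = ι w → v = w := fun v w h => congrArg Additive.ofMul (Subtype.ext h : Additive.toMul v = Additive.toMul w)
  have ιadd : ∀ v w, ι (v + w) = ι v * ι w := fun _ _ => rfl
  have ιsm : ∀ (y : Y) (w : Additive W), ι ((phi h.WY).rangeRestrict y • w) = (y : G) * ι w * (y : G)⁻¹ := fun _ _ => rfl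
  have ιW : ∀ w, ι w ∈ W := fun w => (Additive.toMul w : W).2
  have hAY : A ≤ Y := a.AO.trans h.OY
  have hfin : ∀ {P Q : Subgroup (Im h.WY) → Prop} {p : Prop}, (p ∧ ∃ B, P B ∧ Q B) → ∃ B, Q B :=
    fun ⟨_, B, _, hB⟩ => ⟨B, hB⟩
  refine hfin (S.exists_atR hML (E := img h.WY A) ?_ ?_ ?_ ?_ ?_ ?_ ?_)
  · rintro _ ⟨y, hy, rfl⟩
    exact (mem_img h.WY).2 ⟨y, a.AO hy, rfl⟩
  · rintro _ ⟨y, hy, rfl⟩
    rw [← map_mul]
    exact (rr_eq_one h.WY).2 (a.sq y hy)
  · rintro _ ⟨x, hx, rfl⟩ _ ⟨y, hy, rfl⟩ w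
    apply ιinj
    have h1 := a.quad x hx y hy (ι w) (ιW w)
    rw [h.inv (ιW w)] at h1
    exact h1
  · rw [card_img h.WY hAY]
    exact a.four
  · rw [card_img h.WY hAY, index_fxW h.WY h.Wc hAY]
    exact a.off
  · intro C hCE hC1 hCA
    set B : Subgroup G := A ⊓ (C.comap (phi h.WY).rangeRestrict).map Y.subtype with hB
    have hBA : B ≤ A := inf_le_left
    have hBY : B ≤ Y := hBA.trans hAY
    have hmB : ∀ y : Y, (y : G) ∈ B ↔ (y : G) ∈ A ∧ (phi h.WY).rangeRestrict y ∈ C := by
      intro y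
      rw [hB, mem_inf]
      refine and_congr_right fun _ => ?_
      constructor
      · rintro ⟨y', hy', e⟩
        rw [← Subtype.ext e]
        exact hy'
      · intro hy
        exact ⟨y, hy, rfl⟩
    have hBC : img h.WY B = C := by
      ext x
      rw [mem_img]
      constructor
      · rintro ⟨y, hy, rfl⟩
        exact ((hmB y).1 hy).2
      · intro hx
        obtain ⟨y, hy, rfl⟩ := hCE hx
        exact ⟨y, (hmB y).2 ⟨hy, hx⟩, rfl⟩
    rw [← hBC, card_img h.WY hBY, index_fxW h.WY h.Wc hBY]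
    refine a.min B ?_ ?_
    · refine lt_of_le_of_ne ?_ ?_
      · intro g hg
        refine (hmB ⟨g, hAY hg.1⟩).2 ⟨hg.1, ?_⟩
        rw [(rr_eq_one h.WY).2 hg.2]
        exact C.one_mem
      · intro e
        apply hC1
        rw [eq_bot_iff, ← hBC]
        rintro _ ⟨y, hy, rfl⟩
        rw [mem_bot]
        have hy' : (y : G) ∈ B := hy
        rw [← e] at hy'
        exact (rr_eq_one h.WY).2 hy'.2
    · refine lt_of_le_of_ne hBA fun e => hCA ?_
      rw [← hBC, e]
  · rintro _ ⟨e, he, rfl⟩ x hx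
    obtain ⟨y, rfl⟩ := hs x
    apply ιinj
    refine a.m1 e he y y.2 ?_
    have h1 : (e : G) * ((y : G) * θ * (y : G)⁻¹) * (e : G)⁻¹ * ((y : G) * θ * (y : G)⁻¹) ∈ R := hx
    rwa [h.inv ((mem_normalizer_iff.1 (h.WY y.2) θ).1 h.θW)]

/-- **The group form of the consumer.** -/
theorem grp_dead [Finite G] (hML : ML.Final.MLK.{u, u})
    (box : ∀ (X : Type u) [Group X] (M : Type u) [AddCommGroup M] [DistribMulAction X M] (R : AddSubgroup M) (θ : M)
      (T N B : Subgroup X), SwR R θ T N → AtR R N B → False)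
    (h : GSw Y W R T O θ) (a : GAt Y W R O A θ) : False := by
  obtain ⟨B, hB⟩ := h.exists_at hML a
  exact @box (Im h.WY) _ (Additive W) (@Additive.addCommGroup W (cgr h.Wc)) (actI h.WY h.Wc) (adR W R h.Wc) _
    (img h.WY T) (img h.WY O) B h.sw hB

/-- the same, with the faithful section -/
theorem grp_dead' [Finite G] (hML : ML.Final.MLK.{u, u})
    (box : ∀ (X : Type u) [Group X] (M : Type u) [AddCommGroup M] [DistribMulAction X M] (R : AddSubgroup M) (θ : M)
      (T B : Subgroup X), FsR R θ T B → LaR R θ T → False)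
    (h : GSw Y W R T O θ) (a : GAt Y W R O A θ) : False := by
  refine grp_dead hML ?_ h a
  intro X _ M _ _ R' θ' T' N' B' S' h'
  obtain ⟨X', _, W', _, _, R'', θ'', T'', B'', h1, h2⟩ := S'.exists_fs hML h'
  exact box X' W' R'' θ'' T'' B'' h1 h2

end Cfsg.Agent.Omega.NO3S.SN.ROne
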