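import Cfsg.Agent.Omega.NO3S.SN.ROne.Mov
import Cfsg.Agent.Omega.NO3S.SN.ROne.Def
import Cfsg.Agent.Lib.SylowNormalInf

/-!
# `r = 1`: the frame gives `GSw` (helper763 #23689 (1))

`Y = X_pq = C_G(V_pq)` on `W_pq = ⟨V^Y⟩`, `R = V_pq`, `θ = z_p`, `O = O₂(C_G(V))`.
-/

set_option autoImplicit false
set_option linter.unusedSectionVars false

namespace Cfsg.Agent.Omega.NO3S.SN.ROne

open Subgroup Cfsg Cfsg.Agent.ZN Cfsg.Agent.Omega.S5.Def Cfsg.Agent.Omega.NO3S.SN.R1
open Cfsg.Agent.MinSimple.VModule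

universe u

variable {G : Type u} [Group G]

/-- a Sylow subgroup meets a normal subgroup in a Sylow subgroup -/
theorem not_dvd_of_normal [Finite G] {N X T : Subgroup G} (hT : IsPGroup 2 T)
    (hs : ¬ 2 ∣ T.relIndex N) (hX : X ≤ N) (hn : N ≤ normalizer (X : Set G)) : ¬ 2 ∣ T.relIndex X := by
  have : Fact (Nat.Prime 2) := ⟨Nat.prime_two⟩
  have hT' : IsPGroup 2 (T.subgroupOf N) := hT.comap_of_injective _ N.subtype_injective
  have : (X.subgroupOf N).Normal := normal_subgroupOf_of_le_normalizer hn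
  have h1 := Lib.SylowNormalInf.not_dvd_relIndex (hT'.toSylow hs) (X.subgroupOf N)
  have h2 : (((hT'.toSylow hs : Sylow 2 N) : Subgroup N)).relIndex (X.subgroupOf N) = T.relIndex X := by
    change (T.subgroupOf N).relIndex (X.subgroupOf N) = T.relIndex X
    rw [Subgroup.relIndex_subgroupOf hX]
  rwa [h2] at h1

theorem not_dvd_of_le [Finite G] {T B Y : Subgroup G} (hT : T ≤ B) (hB : B ≤ Y) (hs : ¬ 2 ∣ T.relIndex Y) :
    ¬ 2 ∣ T.relIndex B := fun h => hs (h.trans (Dvd.intro _ (relIndex_mul_relIndex _ _ _ hT hB)))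

variable {n : ℕ} [NeZero n] {V W A : Subgroup G} {ε : (Fin n → ZMod 2) → G} {Q : Fin n → Subgroup G}

omit [NeZero n] in
/-- `V = V_pq ∪ V_pq z_p` -/
theorem mem_VG_or (ev : EvenSet n V (normalizer (V : Set G)) ε) {p q : Fin n} (hpq : p ≠ q) {v : G} (hv : v ∈ V) :
    v ∈ VG ε {p, q} ∨ v * zz ε p ∈ VG ε {p, q} := by
  obtain ⟨x, rfl⟩ := ev.surj v hv
  by_cases h1 : x p = x q
  · left
    rw [mem_VG_iff ev]
    intro i hi j hj
    simp only [Finset.mem_insert, Finset.mem_singleton] at hi hj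
    rcases hi with rfl | rfl <;> rcases hj with rfl | rfl <;> simp [h1]
  · right
    have h2 : x p + 1 = x q := by
      have h3 : ∀ a b : ZMod 2, a ≠ b → a + 1 = b := by decide
      exact h3 _ _ h1
    rw [zz, ← ev.add, mem_VG_iff ev]
    intro i hi j hj
    simp only [Finset.mem_insert, Finset.mem_singleton] at hi hj
    rcases hi with rfl | rfl <;> rcases hj with rfl | rfl <;>
      simp [hpq.symm, h2]

omit [NeZero n] in
theorem zz_notMem (ev : EvenSet n V (normalizer (V : Set G)) ε) {p q : Fin n} (hpq : p ≠ q) :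
    zz ε p ∉ VG ε {p, q} := by
  rw [zz, mem_VG_iff ev]
  intro h1
  have h2 := h1 p (by simp) q (by simp)
  simp [hpq.symm] at h2

omit [NeZero n] in
/-- an element of `X_pq` with `[y, z_p] ∈ V_pq` normalises `V` -/
theorem norm_of_zz [Finite G] (ev : EvenSet n V (normalizer (V : Set G)) ε) {p q : Fin n} (hpq : p ≠ q) {y : G}
    (hy : y ∈ YG ε {p, q}) (h1 : y * zz ε p * y⁻¹ * (zz ε p)⁻¹ ∈ VG ε {p, q}) : y ∈ normalizer (V : Set G) := by
  refine mem_normalizer_of_map_le ?_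
  rintro _ ⟨v, hv, rfl⟩
  change y * v * y⁻¹ ∈ V
  have hcV : ∀ u ∈ VG ε {p, q}, y * u * y⁻¹ = u := by
    intro u hu
    have h2 := mem_centralizer_iff.1 hy u hu
    rw [← h2, mul_inv_cancel_right]
  have hz : y * zz ε p * y⁻¹ ∈ V := by
    have h2 := mul_mem (VG_le ev _ h1) (ev.mem (Pi.single p 1))
    change y * zz ε p * y⁻¹ * (zz ε p)⁻¹ * zz ε p ∈ V at h2
    rwa [inv_mul_cancel_right] at h2
  rcases mem_VG_or ev hpq hv with h2 | h2
  · rw [hcV v h2]
    exact hv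
  · have h3 := mul_mem (VG_le ev _ h2) (inv_mem hz)
    have h4 : y * v * y⁻¹ = (y * (v * zz ε p) * y⁻¹) * (y * zz ε p * y⁻¹)⁻¹ := by group
    rw [h4, hcV _ h2]
    exact h3

omit [NeZero n] in
/-- a vector of `V` centralised by an element inducing `(p q)` lies in `V_pq` -/
theorem mem_VG_of_swap (hn : 3 ≤ n) (ev : EvenSet n V (normalizer (V : Set G)) ε) {p q : Fin n} (hpq : p ≠ q) {t v : G}
    (ht : Acts ε t (Equiv.swap p q)) (hv : v ∈ V) (h : t * v * t⁻¹ = v) : v ∈ VG ε {p, q} := by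
  obtain ⟨x, rfl⟩ := ev.surj v hv
  rw [ht x] at h
  rw [mem_VG_iff ev]
  have h3 : x p = x q := by
    rcases ev.eq_iff.1 h with h1 | h1
    · have h2 := congrFun h1 p
      simp only [Function.comp, Equiv.symm_swap, Equiv.swap_apply_left] at h2
      exact h2.symm
    · exfalso
      obtain ⟨c, hc⟩ : ∃ c : Fin n, c ≠ p ∧ c ≠ q := by
        have h2 : ({p, q} : Finset (Fin n)).card < (Finset.univ : Finset (Fin n)).card := by
          rw [Finset.card_univ, Fintype.card_fin]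
          exact lt_of_le_of_lt Finset.card_le_two (by omega)
        obtain ⟨k, -, hk⟩ := Finset.exists_mem_notMem_of_card_lt_card h2
        simp only [Finset.mem_insert, Finset.mem_singleton, not_or] at hk
        exact ⟨k, hk⟩
      have h2 := congrFun h1 c
      simp only [Function.comp, Equiv.symm_swap, Equiv.swap_apply_of_ne_of_ne hc.1 hc.2, Pi.add_apply,
        Pi.one_apply] at h2
      exact one_ne_zero (left_eq_add.1 h2)
  intro i hi j hj
  simp only [Finset.mem_insert, Finset.mem_singleton] at hi hj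
  rcases hi with rfl | rfl <;> rcases hj with rfl | rfl <;> simp [h3]

/-- an element of `L ∩ X_pq` inducing `(p q)` -/
theorem Fr.exists_swap (h : Fr V W ε Q) {p q : Fin n} :
    ∃ t ∈ normalizer (V : Set G), t ∈ YG ε {p, q} ∧ Acts ε t (Equiv.swap p q) := by
  obtain ⟨t, ht, hσ⟩ := h.ev.full (Equiv.swap p q)
  refine ⟨t, ht, mem_YG_of_acts h.ev hσ fun m hm => ?_, hσ⟩
  simp only [Finset.mem_insert, Finset.mem_singleton, not_or] at hm
  exact Equiv.swap_apply_of_ne_of_ne hm.1 hm.2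

/-- `C_(W_pq)(T) ≤ V_pq` -/
theorem Fr.fixT [Finite G] (h : Fr V W ε Q) {p q : Fin n} (hp : p ≠ 0) (hq : q ≠ 0) (hpq : p ≠ q) {T : Subgroup G}
    (hTY : T ≤ YG ε {p, q}) (hTN : T ≤ normalizer (V : Set G)) (hT2 : IsPGroup 2 T)
    (hTs : ¬ 2 ∣ T.relIndex (YG ε {p, q})) {w : G} (hw : w ∈ UG V ε {p, q}) (hf : ∀ t ∈ T, t * w * t⁻¹ = w) :
    w ∈ VG ε {p, q} := by
  have hn3 := h.n3
  have hB : T.relIndex (YG ε {p, q} ⊓ normalizer (V : Set G)) ∣ T.relIndex (YG ε {p, q}) :=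
    Dvd.intro _ (relIndex_mul_relIndex _ _ _ (le_inf hTY hTN) inf_le_left)
  have h1 : ¬ 2 ∣ T.relIndex (YG ε {p, q} ⊓ normalizer (V : Set G)) := fun hd => hTs (hd.trans hB)
  have hCB : centralizer (V : Set G) ≤ YG ε {p, q} ⊓ normalizer (V : Set G) :=
    le_inf (centralizer_le_YG h.ev _) (centralizer_le_normalizer _)
  have hBC : YG ε {p, q} ⊓ normalizer (V : Set G) ≤ normalizer (centralizer (V : Set G) : Set G) :=
    fun g hg => norm_cent hg.2
  have h2 := not_dvd_of_normal hT2 h1 hCB hBC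
  have hwV : w ∈ V := by
    refine h.cV (T ⊓ centralizer (V : Set G)) inf_le_right (hT2.to_le inf_le_left) ?_ w
      (h.UG_le hpq hp hq hw) fun t ht => hf t ht.1
    rwa [inf_relIndex_right]
  -- `T` is not contained in `C(V)`
  obtain ⟨t, htN, htY, htσ⟩ := h.exists_swap (p := p) (q := q)
  by_cases hc : T ≤ centralizer (V : Set G)
  · exfalso
    apply h1
    have h3 : (centralizer (V : Set G)).relIndex (YG ε {p, q} ⊓ normalizer (V : Set G)) = 2 := by
      rw [relIndex, index_eq_two_iff]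
      refine ⟨⟨t, htY, htN⟩, fun b => ?_⟩
      have hb : ∀ c : G, c ∈ YG ε {p, q} → c ∈ normalizer (V : Set G) → Acts ε c (Equiv.swap p q) →
          c ∉ centralizer (V : Set G) := by
        intro c _ _ hc1 hc2
        have h4 := h.ev.acts_unique hn3 hc1 (h.ev.acts_one_iff.2 hc2)
        have h5 : Equiv.swap p q p = p := by rw [h4]; rfl
        rw [Equiv.swap_apply_left] at h5
        exact hpq h5.symm
      rcases one_or_swap hn3 h.ev hpq b.2.1 b.2.2 with h4 | h4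
      · right
        refine ⟨h4, ?_⟩
        rw [mem_subgroupOf]
        change (b : G) * t ∉ _
        intro h5
        have h6 : t ∈ centralizer (V : Set G) := (mul_mem_cancel_left h4).1 h5
        exact hb t htY htN htσ h6
      · left
        refine ⟨?_, hb _ b.2.1 b.2.2 h4⟩
        rw [mem_subgroupOf]
        change (b : G) * t ∈ _
        refine h.ev.acts_one_iff.1 ?_
        have h5 := h4.mul htσ
        rwa [Equiv.swap_mul_self] at h5
    have h4 := relIndex_mul_relIndex T (centralizer (V : Set G)) _ hc hCB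
    rw [← h4, h3]
    exact Dvd.intro_left _ rfl
  · rw [SetLike.not_le_iff_exists] at hc
    obtain ⟨s, hs, hsc⟩ := hc
    rcases one_or_swap hn3 h.ev hpq (hTY hs) (hTN hs) with h4 | h4
    · exact absurd h4 hsc
    · exact mem_VG_of_swap hn3 h.ev hpq h4 hwV (hf s hs)

/-- **`GSw`** -/
theorem Fr.gsw [Finite G] (h : Fr V W ε Q) {p q : Fin n} (hp : p ≠ 0) (hq : q ≠ 0) (hpq : p ≠ q)
    (hf : ∀ y ∈ YG ε {p, q}, (∀ w ∈ UG V ε {p, q}, y * w * y⁻¹ * w⁻¹ ∈ VG ε {p, q}) →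
      y ∈ centralizer (UG V ε {p, q} : Set G)) :
    ∃ T : Subgroup G, GSw (YG ε {p, q}) (UG V ε {p, q}) (VG ε {p, q}) T (o2 (centralizer (V : Set G))) (zz ε p) := by
  have hn3 := h.n3
  obtain ⟨T, hTY, hTN, hT2, hTs⟩ := h.syl p q hpq hp hq
  have hUW := h.UG_le hpq hp hq
  have hVU : V ≤ UG V ε {p, q} := le_Cl _ _
  have hz : zz ε p * zz ε q ∈ VG ε {p, q} := by
    rw [zz, zz, ← h.ev.add, mem_VG_iff h.ev]
    exact single_add_cst hpq
  have hTθ : ∀ t ∈ YG ε {p, q}, t ∈ normalizer (V : Set G) → t * zz ε p * t⁻¹ * (zz ε p)⁻¹ ∈ VG ε {p, q} := by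
    intro t ht htN
    rcases one_or_swap hn3 h.ev hpq ht htN with h1 | h1
    · have h2 := mem_centralizer_iff.1 h1 _ (h.ev.mem (Pi.single p 1))
      change t * ε (Pi.single p 1) * t⁻¹ * (ε (Pi.single p 1))⁻¹ ∈ _
      rw [← h2, mul_inv_cancel_right, mul_inv_cancel]
      exact one_mem _
    · have h2 := h1.single p
      rw [Equiv.swap_apply_left] at h2
      change t * ε (Pi.single p 1) * t⁻¹ * (ε (Pi.single p 1))⁻¹ ∈ _
      rw [h2, h.ev.inv, h.ev.comm]
      exact hz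
  refine ⟨T,
    { kY := h.kg p q hpq hp hq
      WY := le_normalizer_Cl _ _
      Wc := fun a ha b hb => h.Wc a (hUW ha) b (hUW hb)
      Ws := fun a ha => h.Ws a (hUW ha)
      RW := (VG_le h.ev _).trans hVU
      RY := le_rfl
      faith := hf
      TY := hTY
      T2 := hT2
      syl := hTs
      fixT := fun w hw hf => h.fixT hp hq hpq hTY hTN hT2 hTs hw hf
      θW := hVU (h.ev.mem _)
      θR := zz_notMem h.ev hpq
      Tθ := fun t ht => hTθ t (hTY ht) (hTN ht)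
      gen := ?_
      OY := (o2_le _).trans (centralizer_le_YG h.ev _)
      O2 := o2_isPGroup _
      Oθ := fun o ho => hTθ o (centralizer_le_YG h.ev _ (o2_le _ ho)) (centralizer_le_normalizer _ (o2_le _ ho))
      On := fun y hy h1 => norm_o2 (norm_cent (norm_of_zz h.ev hpq hy h1)) }⟩
  intro U hRU hU
  rw [UG, Cl, closure_le]
  rintro _ ⟨g, hg, v, hv, rfl⟩
  have hcV : ∀ u ∈ VG ε {p, q}, g * u * g⁻¹ = u := by
    intro u hu
    have h2 := mem_centralizer_iff.1 hg u hu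
    rw [← h2, mul_inv_cancel_right]
  rcases mem_VG_or h.ev hpq hv with h2 | h2
  · rw [hcV v h2]
    exact hRU h2
  · have h4 : g * v * g⁻¹ = (g * (v * zz ε p) * g⁻¹) * (g * zz ε p * g⁻¹)⁻¹ := by group
    rw [h4, hcV _ h2]
    exact mul_mem (hRU h2) (inv_mem (hU g hg))

/-- `GAt.m1` -/
theorem Fr.gm1 [Finite G] (h : Fr V W ε Q) {p q : Fin n} (hp : p ≠ 0) (hq : q ≠ 0) (hpq : p ≠ q) (hA : A ≤ Q p)
    (hc : Co W A Q p q) : ∀ a ∈ A, ∀ y ∈ YG ε {p, q},
      a * (y * zz ε p * y⁻¹) * a⁻¹ * (y * zz ε p * y⁻¹)⁻¹ ∈ VG ε {p, q} →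
      a * (y * zz ε p * y⁻¹) * a⁻¹ = y * zz ε p * y⁻¹ := by
  intro a ha y hy h1
  have haY : a ∈ YG ε {p, q} := centralizer_le_YG h.ev _ (h.QV p (hA ha))
  have hbY : y⁻¹ * a * y ∈ YG ε {p, q} := mul_mem (mul_mem (inv_mem hy) haY) hy
  have h2 : (y⁻¹ * a * y) * zz ε p * (y⁻¹ * a * y)⁻¹ * (zz ε p)⁻¹ ∈ VG ε {p, q} := by
    have h3 := mem_centralizer_iff.1 (inv_mem hy) _ h1
    have h4 : (y⁻¹ * a * y) * zz ε p * (y⁻¹ * a * y)⁻¹ * (zz ε p)⁻¹ =
        y⁻¹ * (a * (y * zz ε p * y⁻¹) * a⁻¹ * (y * zz ε p * y⁻¹)⁻¹) * y := by group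
    rw [h4, ← h3, inv_mul_cancel_right]
    exact h1
  have h5 := h.m1 hp hq hpq hA hc hy ha (norm_of_zz h.ev hpq hbY h2)
  have h6 := mem_centralizer_iff.1 h5 _ (h.ev.mem (Pi.single p 1))
  change zz ε p * (y⁻¹ * a * y) = (y⁻¹ * a * y) * zz ε p at h6
  calc a * (y * zz ε p * y⁻¹) * a⁻¹ = y * ((y⁻¹ * a * y) * zz ε p) * y⁻¹ * a⁻¹ := by group
    _ = y * (zz ε p * (y⁻¹ * a * y)) * y⁻¹ * a⁻¹ := by rw [h6]
    _ = y * zz ε p * y⁻¹ := by group

end Cfsg.Agent.Omega.NO3S.SN.ROne
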