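import Cfsg.Agent.Omega.NO3S.SN.ROne.Rel

/-!
# `r = 1`: (M1) in the relative frame (helper430 #22327 (3))

`A ≤ Q p`, `[W, A]` centralised by `Q k`, `k ∉ {0, p, q}`; `x ∈ X_pq`, `a ∈ A`, `x⁻¹ a x ∈ N(V)`: then `x⁻¹ a x ∈ C(V)`.
-/

set_option autoImplicit false
set_option linter.unusedSectionVars false

namespace Cfsg.Agent.Omega.NO3S.SN.ROne

open Subgroup Cfsg Cfsg.Agent.ZN Cfsg.Agent.Omega.S5.Def Cfsg.Agent.Omega.NO3S.SN.R1
open Cfsg.Agent.MinSimple.VModule

universe u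

variable {G : Type u} [Group G] {n : ℕ} [NeZero n] {V W A : Subgroup G} {ε : (Fin n → ZMod 2) → G}
  {Q : Fin n → Subgroup G}

omit [NeZero n] in
/-- `σ` fixing all letters outside `{a, b}` -/
theorem perm_eq_of_fix {σ : Equiv.Perm (Fin n)} {a b : Fin n} (hab : a ≠ b)
    (h : ∀ c, c ≠ a → c ≠ b → σ c = c) : σ = 1 ∨ σ = Equiv.swap a b := by
  by_cases ha : σ a = a
  · left
    ext c
    by_cases hca : c = a
    · rw [hca, ha]; rfl
    · by_cases hcb : c = b
      · subst hcb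
        have h1 : σ c = c := by
          by_contra hne
          have h2 : σ c ≠ a := fun h3 => hca (σ.injective (h3.trans ha.symm))
          exact hne (σ.injective (h (σ c) h2 hne))
        rw [h1]; rfl
      · rw [h c hca hcb]; rfl
  · right
    have h1 : σ a = b := by
      by_contra hne
      exact ha (σ.injective (h (σ a) ha hne))
    have h2 : σ b = a := by
      by_contra hne
      have h3 : σ b ≠ b := fun h4 => hab (σ.injective (h1.trans h4.symm))
      exact h3 (σ.injective (h (σ b) hne h3))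
    ext c
    by_cases hca : c = a
    · rw [hca, h1, Equiv.swap_apply_left]
    · by_cases hcb : c = b
      · rw [hcb, h2, Equiv.swap_apply_right]
      · rw [h c hca hcb, Equiv.swap_apply_of_ne_of_ne hca hcb]

omit [NeZero n] in
/-- an element of `X_ab` normalising `V` -/
theorem one_or_swap (hn : 3 ≤ n) (ev : EvenSet n V (normalizer (V : Set G)) ε) {a b : Fin n} (hab : a ≠ b) {y : G}
    (hy : y ∈ YG ε {a, b}) (hN : y ∈ normalizer (V : Set G)) :
    y ∈ centralizer (V : Set G) ∨ Acts ε y (Equiv.swap a b) := by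
  obtain ⟨σ, hσ⟩ := ev.perm y hN
  have h1 : ∀ c, c ≠ a → c ≠ b → σ c = c := fun c hca hcb =>
    acts_fix ev hn hσ hy (by simp [hca, hcb])
  rcases perm_eq_of_fix hab h1 with h2 | h2
  · left
    rw [h2] at hσ
    exact ev.acts_one_iff.mp hσ
  · right
    rwa [h2] at hσ

omit [NeZero n] in
theorem single_add_cst {a b : Fin n} (hab : a ≠ b) :
    Cst ({a, b} : Finset (Fin n)) (Pi.single a 1 + Pi.single b 1 : Fin n → ZMod 2) := by
  intro p hp q hq
  simp only [Finset.mem_insert, Finset.mem_singleton] at hp hq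
  rcases hp with rfl | rfl <;> rcases hq with rfl | rfl <;> simp [hab, hab.symm]

omit [NeZero n] in
theorem single_add_cst' {a b i j : Fin n} (hia : i ≠ a) (hib : i ≠ b) (hja : j ≠ a) (hjb : j ≠ b) :
    Cst ({a, b} : Finset (Fin n)) (Pi.single i 1 + Pi.single j 1 : Fin n → ZMod 2) := by
  refine Cst.add (cst_single ?_) (cst_single ?_) <;> simp [hia, hib, hja, hjb]

/-- the hypothesis on the centralisers of `[W, A]` -/
def Co (W A : Subgroup G) (Q : Fin n → Subgroup G) (p q : Fin n) : Prop :=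
  ∀ k : Fin n, k ≠ 0 → k ≠ p → k ≠ q → ∀ a ∈ A, ∀ u ∈ W, ∀ κ ∈ Q k,
    κ * (a * u * a⁻¹ * u⁻¹) = (a * u * a⁻¹ * u⁻¹) * κ

/-- **(M1) for `r = 1`** -/
theorem Fr.m1 (h : Fr V W ε Q) {p q : Fin n} (hp : p ≠ 0) (hq : q ≠ 0) (hpq : p ≠ q) (hA : A ≤ Q p)
    (hc : Co W A Q p q) {x a : G} (hx : x ∈ YG ε {p, q}) (ha : a ∈ A)
    (hN : x⁻¹ * a * x ∈ normalizer (V : Set G)) : x⁻¹ * a * x ∈ centralizer (V : Set G) := by
  have hn3 := h.n3
  have hAV : A ≤ centralizer (V : Set G) := hA.trans (h.QV p)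
  have haY : a ∈ YG ε {p, q} := centralizer_le_YG h.ev _ (hAV ha)
  have hbY : x⁻¹ * a * x ∈ YG ε {p, q} := mul_mem (mul_mem (inv_mem hx) haY) hx
  rcases one_or_swap hn3 h.ev hpq hbY hN with h0 | hs
  · exact h0
  exfalso
  obtain ⟨b, hb⟩ : ∃ b, b = x⁻¹ * a * x := ⟨_, rfl⟩
  rw [← hb] at hs hbY
  have hab : a = x * b * x⁻¹ := by rw [hb]; group
  -- `b` has the property `Sh` for `Q k`
  have hSh : ∀ k : Fin n, k ≠ 0 → k ≠ p → k ≠ q → Sh W (Q k) b := by
    intro k hk0 hkp hkq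
    have h1 := h.sh hAV hpq hp hq hkp hkq (hc k hk0 hkp hkq) (inv_mem hx) ha
    rwa [inv_inv, ← hb] at h1
  obtain ⟨w, hw⟩ : ∃ w, w = x * zz ε p * x⁻¹ := ⟨_, rfl⟩
  have hwW : w ∈ W := by
    rw [hw]
    exact (mem_normalizer_iff.1 (h.WX p q hpq hp hq hx) _).1 (h.VW (h.ev.mem _))
  -- `[a, w] = z_q z_p`
  have h1 : a * w * a⁻¹ * w⁻¹ = ε (Pi.single p 1 + Pi.single q 1) := by
    have h2 : b * zz ε p * b⁻¹ = zz ε q := by
      have h3 := hs.single p
      rwa [Equiv.swap_apply_left] at h3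
    have h3 : a * w * a⁻¹ * w⁻¹ = x * (b * zz ε p * b⁻¹ * (zz ε p)⁻¹) * x⁻¹ := by
      rw [hw, hab]; group
    rw [h3, h2]
    have h4 : zz ε q * (zz ε p)⁻¹ = ε (Pi.single p 1 + Pi.single q 1) := by
      rw [zz, zz, h.ev.inv, h.ev.add, h.ev.comm]
    rw [h4]
    exact (mem_YG h.ev).1 hx _ (single_add_cst hpq)
  -- `[q_j, w] = z_j z_p`
  have key : ∀ j : Fin n, j ≠ 0 → j ≠ p → j ≠ q →
      ∃ r ∈ centralizer (V : Set G), r * w * r⁻¹ * w⁻¹ = ε (Pi.single p 1 + Pi.single j 1) := by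
    intro j hj0 hjp hjq
    -- the 3-cycle `p → q → j → p`
    obtain ⟨g, hg, hσ⟩ := h.ev.full (Equiv.swap p j * Equiv.swap p q)
    set σ : Equiv.Perm (Fin n) := Equiv.swap p j * Equiv.swap p q with hσd
    have e1 : σ p = q := by
      rw [hσd, Equiv.Perm.mul_apply, Equiv.swap_apply_left, Equiv.swap_apply_of_ne_of_ne hpq.symm hjq.symm]
    have e2 : σ q = j := by
      rw [hσd, Equiv.Perm.mul_apply, Equiv.swap_apply_right, Equiv.swap_apply_left]
    have e3 : σ j = p := by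
      rw [hσd, Equiv.Perm.mul_apply, Equiv.swap_apply_of_ne_of_ne hjp hjq, Equiv.swap_apply_right]
    have e0 : σ 0 = 0 := by
      rw [hσd, Equiv.Perm.mul_apply, Equiv.swap_apply_of_ne_of_ne hp.symm hq.symm,
        Equiv.swap_apply_of_ne_of_ne hp.symm hj0.symm]
    have hgW : g ∈ normalizer (W : Set G) := by
      refine h.WL g hg ?_
      have h5 := hσ.single 0
      rwa [e0] at h5
    have hPP : ∀ y, y ∈ Q j ↔ g * y * g⁻¹ ∈ Q p := by
      intro y
      constructor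
      · intro hy
        have h5 := h.QL g σ hσ j y hy
        rwa [e3] at h5
      · intro hy
        have h5 := h.QL g⁻¹ σ⁻¹ hσ.inv p _ hy
        have e4 : σ⁻¹ p = j := by rw [← e3]; exact σ.symm_apply_apply j
        rw [e4] at h5
        have e5 : g⁻¹ * (g * y * g⁻¹) * g⁻¹⁻¹ = y := by group
        rwa [e5] at h5
    have hd := (hSh j hj0 hjp hjq).conj hgW hPP
    have hdσ : Acts ε (g * b * g⁻¹) (Equiv.swap q j) := by
      have h5 := hσ.conj hs
      have h6 : σ * Equiv.swap p q * σ⁻¹ = Equiv.swap q j := by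
        rw [← e1, ← e2, Equiv.swap_apply_apply, e1]
      rwa [h6] at h5
    obtain ⟨d, hdd⟩ : ∃ d, d = g * b * g⁻¹ := ⟨_, rfl⟩
    rw [← hdd] at hd hdσ
    refine ⟨d * a * d⁻¹, h.QV p ((mem_normalizer_iff.1 hd.1 a).1 (hA ha)), ?_⟩
    rw [← hd.2 a (hA ha) w hwW, h1, hdσ]
    congr 1
    funext t
    simp only [Function.comp, Equiv.symm_swap, Pi.add_apply, Pi.single_apply]
    have e6 : (Equiv.swap q j t = p) = (t = p) := by
      rw [Equiv.swap_apply_eq_iff, Equiv.swap_apply_of_ne_of_ne hpq hjp.symm]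
    have e7 : (Equiv.swap q j t = q) = (t = j) := by
      rw [Equiv.swap_apply_eq_iff, Equiv.swap_apply_left]
    simp only [e6, e7]
  obtain ⟨j, hj0, hjp, hjq, -⟩ := h.exists_letter p q q
  obtain ⟨k, hk0, hkp, hkq, hkj⟩ := h.exists_letter p q j
  obtain ⟨r, hr, hr1⟩ := key j hj0 hjp hjq
  obtain ⟨s, hs', hs1⟩ := key k hk0 hkp hkq
  -- `[r s, w] = z_j z_k`
  have hq1 : (r * s) * w * (r * s)⁻¹ * w⁻¹ = ε (Pi.single k 1 + Pi.single j 1) := by
    have h5 : s * w * s⁻¹ = ε (Pi.single p 1 + Pi.single k 1) * w := by rw [← hs1]; group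
    have h6 : r * w * r⁻¹ = ε (Pi.single p 1 + Pi.single j 1) * w := by rw [← hr1]; group
    have h7 := mem_centralizer_iff.mp hr _ (h.ev.mem (Pi.single p 1 + Pi.single k 1))
    calc (r * s) * w * (r * s)⁻¹ * w⁻¹ = r * (s * w * s⁻¹) * r⁻¹ * w⁻¹ := by group
      _ = r * (ε (Pi.single p 1 + Pi.single k 1) * w) * r⁻¹ * w⁻¹ := by rw [h5]
      _ = (r * ε (Pi.single p 1 + Pi.single k 1)) * w * r⁻¹ * w⁻¹ := by group
      _ = ε (Pi.single p 1 + Pi.single k 1) * (r * w * r⁻¹) * w⁻¹ := by rw [← h7]; group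
      _ = ε (Pi.single p 1 + Pi.single k 1) * ε (Pi.single p 1 + Pi.single j 1) := by rw [h6]; group
      _ = ε (Pi.single p 1 + Pi.single k 1 + (Pi.single p 1 + Pi.single j 1)) := (h.ev.add _ _).symm
      _ = _ := by
        congr 1
        have h8 : (Pi.single p 1 + Pi.single k 1 + (Pi.single p 1 + Pi.single j 1) : Fin n → ZMod 2) =
            (Pi.single p 1 + Pi.single p 1) + (Pi.single k 1 + Pi.single j 1) := by abel
        rw [h8, add_self, zero_add]
  have hpp : (x⁻¹ * (r * s) * x) * zz ε p * (x⁻¹ * (r * s) * x)⁻¹ =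
      ε (Pi.single k 1 + Pi.single j 1 + Pi.single p 1) := by
    have h5 : (x⁻¹ * (r * s) * x) * zz ε p * (x⁻¹ * (r * s) * x)⁻¹ =
        x⁻¹ * (((r * s) * w * (r * s)⁻¹ * w⁻¹) * w) * x⁻¹⁻¹ := by rw [hw]; group
    rw [h5, hq1]
    have h6 : x⁻¹ * ε (Pi.single k 1 + Pi.single j 1) * x⁻¹⁻¹ = ε (Pi.single k 1 + Pi.single j 1) :=
      (mem_YG h.ev).1 (inv_mem hx) _ (single_add_cst' hkp hkq hjp hjq)
    calc x⁻¹ * (ε (Pi.single k 1 + Pi.single j 1) * w) * x⁻¹⁻¹
        = (x⁻¹ * ε (Pi.single k 1 + Pi.single j 1) * x⁻¹⁻¹) * (x⁻¹ * w * x⁻¹⁻¹) := by group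
      _ = ε (Pi.single k 1 + Pi.single j 1) * zz ε p := by rw [h6, hw]; group
      _ = _ := by rw [zz, ← h.ev.add]
  obtain ⟨i, hi⟩ := h.fus p (x⁻¹ * (r * s) * x) (by rw [hpp]; exact h.ev.mem _)
  rw [hpp, zz] at hi
  rcases h.ev.eq_iff.mp hi with h5 | h5
  · have h6 := congrFun h5 k
    have h7 := congrFun h5 j
    simp only [Pi.add_apply, Pi.single_apply] at h6 h7
    simp [hkj, hkj.symm, hkp, hjp] at h6 h7
    exact hkj (h6.trans h7.symm)
  · have h6 := congrFun h5 0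
    have h7 := congrFun h5 q
    simp only [Pi.add_apply, Pi.single_apply, Pi.one_apply] at h6 h7
    simp only [hj0.symm, hk0.symm, hp.symm, hjq.symm, hkq.symm, hpq.symm, if_false, add_zero] at h6 h7
    have h8 : (0 : Fin n) = i := by
      by_contra hne
      rw [if_neg hne, zero_add] at h6
      exact zero_ne_one h6
    have h9 : q = i := by
      by_contra hne
      rw [if_neg hne, zero_add] at h7
      exact zero_ne_one h7
    exact hq (h9.trans h8.symm)

end Cfsg.Agent.Omega.NO3S.SN.ROne
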