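import Cfsg.Agent.Omega.NO3S.SN.ROne.Inst
import Cfsg.Agent.Omega.NO3S.SN.R1.TwoRel
import Cfsg.Agent.Omega.NO3S.SN.RTwo.Def

/-!
# `r = 1`: 695's relative frame `RTwo.Fr` gives `ROne.Fr` with `Q k = O₂(M^(k))`, and `Co`
-/

set_option autoImplicit false
set_option linter.unusedSectionVars false

namespace Cfsg.Agent.Omega.NO3S.SN.ROne

open Subgroup Cfsg Cfsg.Agent.ZN Cfsg.Agent.Omega.S5.Def Cfsg.Agent.Omega.NO3S.SN.R1
open Cfsg.Agent.Omega.NO3S.SN.RTwo (PM PY PU WI)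
open Cfsg.Agent.MinSimple.VModule
open scoped Pointwise

universe u

variable {G : Type u} [Group G] {n : ℕ} [NeZero n] {V W A : Subgroup G} {ε : (Fin n → ZMod 2) → G}

omit [NeZero n] in
theorem YG_le_PM {i j k : Fin n} (hij : i ≠ j) (hi : i ≠ k) (hj : j ≠ k) : YG ε {i, j} ≤ PM V ε k :=
  fun _ hg => subset_closure (Or.inr ⟨i, j, hi, hj, hij, hg⟩)

omit [NeZero n] in
theorem mem_PM {g : G} {k : Fin n} (hg : g ∈ normalizer (V : Set G)) (h : g * zz ε k * g⁻¹ = zz ε k) :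
    g ∈ PM V ε k := subset_closure (Or.inl ⟨hg, h⟩)

omit [NeZero n] in
theorem YG_le_PY {i j : Fin n} {Γ : Finset (Fin n)} (hij : i ≠ j) (hi : i ∈ Γ) (hj : j ∈ Γ) :
    YG ε {i, j} ≤ PY V ε Γ := fun _ hg => subset_closure (Or.inr ⟨i, hi, j, hj, hij, hg⟩)

omit [NeZero n] in
theorem PY_le_YG (Γ : Finset (Fin n)) : PY V ε Γ ≤ YG ε Γ := by
  rw [PY, closure_le]
  rintro g (⟨-, h⟩ | ⟨i, hi, j, hj, -, h⟩)
  · exact h
  · refine YG_mono ε ?_ h
    intro x hx
    simp only [Finset.mem_insert, Finset.mem_singleton] at hx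
    rcases hx with rfl | rfl
    · exact hi
    · exact hj

omit [NeZero n] in
/-- `Y_Γ ≤ M^(k)` for `k ∉ Γ` -/
theorem PY_le_PM (ev : EvenSet n V (normalizer (V : Set G)) ε) {Γ : Finset (Fin n)} {k : Fin n} (hk : k ∉ Γ) :
    PY V ε Γ ≤ PM V ε k := by
  rw [PY, closure_le]
  rintro g (⟨hg, h⟩ | ⟨i, hi, j, hj, hij, h⟩)
  · exact mem_PM hg ((mem_YG ev).1 h _ (cst_single hk))
  · refine YG_le_PM hij ?_ ?_ h
    · rintro rfl
      exact hk hi
    · rintro rfl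
      exact hk hj

omit [NeZero n] in
theorem PM_le (ev : EvenSet n V (normalizer (V : Set G)) ε) (k : Fin n) :
    PM V ε k ≤ centralizer ({zz ε k} : Set G) := by
  rw [PM, closure_le]
  rintro g (⟨-, h⟩ | ⟨i, j, hi, hj, -, h⟩)
  · rw [SetLike.mem_coe, mem_centralizer_singleton_iff]
    exact mul_inv_eq_iff_eq_mul.mp h
  · rw [SetLike.mem_coe, mem_centralizer_singleton_iff]
    refine mul_inv_eq_iff_eq_mul.mp ((mem_YG ev).1 h _ (cst_single ?_))
    simp [hi.symm, hj.symm]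

theorem kg_of {K : Subgroup G} (h : IsKGroup (centralizer ({zz ε 0} : Set G)))
    (hK : K ≤ centralizer ({zz ε 0} : Set G)) : IsKGroup K :=
  ML.Final.kgroup_of_surj h (K.subgroupOf _) (subgroupOfEquivOfLe hK).toMonoidHom
    (subgroupOfEquivOfLe hK).surjective

theorem conj_o2 [Finite G] {H H' : Subgroup G} {g : G} (h : MulAut.conj g • H = H') {x : G} (hx : x ∈ o2 H) :
    g * x * g⁻¹ ∈ o2 H' := by
  have h1 : (o2 H).map (MulAut.conj g).toMonoidHom ≤ o2 H' := by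
    refine le_o2 ?_ ((o2_isPGroup H).map _) ?_
    · rintro _ ⟨y, hy, rfl⟩
      rw [← h]
      exact RTwo.cj_mem (o2_le H hy)
    · intro l hl
      rw [← h, RTwo.mem_cj] at hl
      refine mem_normalizer_of_map_le ?_
      rintro _ ⟨_, ⟨y, hy, rfl⟩, rfl⟩
      refine ⟨g⁻¹ * l * g * y * (g⁻¹ * l * g)⁻¹, (mem_normalizer_iff.1 (le_normalizer_o2 H hl) y).1 hy, ?_⟩
      change g * (g⁻¹ * l * g * y * (g⁻¹ * l * g)⁻¹) * g⁻¹ = l * (g * y * g⁻¹) * l⁻¹
      group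
  exact h1 ⟨x, hx, rfl⟩

/-- **695's frame gives the frame for `r = 1`** -/
theorem fr_of [Finite G] (h : RTwo.Fr V W ε) : Fr V W ε (fun k => o2 (PM V ε k)) := by
  have hWM : PM V ε 0 ≤ normalizer (W : Set G) := by
    rw [h.Weq]
    exact le_normalizer_Cl _ _
  have hY0 : ∀ Γ : Finset (Fin n), 0 ∉ Γ → YG ε Γ ≤ centralizer ({zz ε 0} : Set G) := by
    intro Γ h0
    refine centralizer_le ?_
    rw [Set.singleton_subset_iff]
    exact (mem_VG_iff h.ev).2 (cst_single h0)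
  have hp0 : ∀ i j : Fin n, i ≠ 0 → j ≠ 0 → (0 : Fin n) ∉ ({i, j} : Finset (Fin n)) := by
    intro i j hi hj
    simp [hi.symm, hj.symm]
  refine
    { n5 := h.n5
      ev := h.ev
      VW := by rw [h.Weq]; exact le_Cl _ _
      Wc := h.Wc
      Ws := h.Ws
      WL := fun g hg h1 => hWM (mem_PM hg h1)
      WX := fun i j hij hi hj => (YG_le_PM hij hi hj).trans hWM
      fus := h.fus
      syl := fun i j _ hi hj => h.syl {i, j} (hp0 i j hi hj)
      kg := fun i j _ hi hj => kg_of h.kg (hY0 _ (hp0 i j hi hj))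
      Q2 := fun k => o2_isPGroup _
      QV := ?_
      QX := fun i j k hij hki hkj => (YG_le_PM hij hki.symm hkj.symm).trans (le_normalizer_o2 _)
      QL := ?_
      cV := ?_ }
  · intro k q hq
    obtain ⟨g, hg, hσ⟩ := h.ev.full (Equiv.swap k 0)
    have h1 := RTwo.cj_PM_acts hg hσ k
    rw [Equiv.swap_apply_left] at h1
    have h2 := h.Qc (conj_o2 h1 hq)
    have h3 := norm_cent (inv_mem hg)
    have h4 := (mem_normalizer_iff.1 h3 _).1 h2
    have e : g⁻¹ * (g * q * g⁻¹) * g⁻¹⁻¹ = q := by group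
    rwa [e] at h4
  · intro g σ hσ k q hq
    exact conj_o2 (RTwo.cj_PM_acts (acts_mem_normalizer h.ev hσ) hσ k) hq
  · intro T h1 h2 h3 w hw hf
    refine h.cv T h1 h2 h3 ⟨hw, mem_centralizer_iff.2 fun t ht => ?_⟩
    exact mul_inv_eq_iff_eq_mul.mp (hf t ht)

/-- `YDat` for `Y = Y_Γ` -/
theorem ydat_of [Finite G] (h : RTwo.Fr V W ε) {i j k : Fin n} (hi : i ≠ 0) (hj : j ≠ 0) (hk : k ≠ 0) (hij : i ≠ j)
    (hik : i ≠ k) (hjk : j ≠ k) : YDat V ε W (PY V ε {i, j, k}) i j k := by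
  have hF := fr_of h
  have h0 : (0 : Fin n) ∉ ({i, j, k} : Finset (Fin n)) := by
    simp [hi.symm, hj.symm, hk.symm]
  have hWM : PM V ε 0 ≤ normalizer (W : Set G) := by
    rw [h.Weq]
    exact le_normalizer_Cl _ _
  have hNY : normalizer (V : Set G) ⊓ YG ε {i, j, k} ≤ PY V ε {i, j, k} := fun g hg => subset_closure (Or.inl hg)
  obtain ⟨T, hT1, hT2, hT3, hT4⟩ := h.syl {i, j, k} h0
  have hTY : T ≤ PY V ε {i, j, k} := (le_inf hT2 hT1).trans hNY
  exact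
    { n5 := h.n5
      ev := h.ev
      ij := hij
      ik := hik
      jk := hjk
      YV := PY_le_YG _
      NY := hNY
      VW := hF.VW
      YW := (PY_le_PM h.ev h0).trans hWM
      Wc := h.Wc
      Ws := h.Ws
      fus := fun g _ h1 => h.fus k g h1
      syl := ⟨T, hTY, hT2, hT3, not_dvd_of_le hTY (PY_le_YG _) hT4⟩
      kg := kg_of h.kg ((PY_le_PM h.ev h0).trans (PM_le h.ev 0)) }

/-- `O₂(M^(m))` centralises `U_Γ`, `m ∉ Γ` -/
theorem cent_PU [Finite G] (h : RTwo.Fr V W ε) {Γ : Finset (Fin n)} {m : Fin n} (hm : m ∉ Γ) :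
    o2 (PM V ε m) ≤ centralizer (Cl V (PY V ε Γ) : Set G) := by
  have hF := fr_of h
  intro q hq
  rw [mem_centralizer_iff]
  intro u hu
  refine closure_induction (p := fun x _ => x * q = q * x) ?_ ?_ ?_ ?_ hu
  · rintro _ ⟨y, hy, v, hv, rfl⟩
    have h1 : y⁻¹ * q * y ∈ o2 (PM V ε m) := by
      have := (mem_normalizer_iff.1 (inv_mem (le_normalizer_o2 _ (PY_le_PM h.ev hm hy))) q).1 hq
      rwa [inv_inv] at this
    have h2 := mem_centralizer_iff.1 (hF.QV m h1) v hv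
    calc y * v * y⁻¹ * q = y * (v * (y⁻¹ * q * y)) * y⁻¹ := by group
      _ = y * ((y⁻¹ * q * y) * v) * y⁻¹ := by rw [h2]
      _ = q * (y * v * y⁻¹) := by group
  · rw [one_mul, mul_one]
  · intro x y _ _ h1 h2
    rw [mul_assoc, h2, ← mul_assoc, h1, mul_assoc]
  · intro x _ h1
    have h2 : Commute x q := h1
    exact h2.inv_left

/-- **`Co`**: `[W, A]` is centralised by `O₂(M^(k))`, `k ∉ {0, p, q}` -/
theorem co_of [Finite G] (h : RTwo.Fr V W ε) (hML : ML.Final.MLK.{u, u}) {p q : Fin n} (hp : p ≠ 0) (hq : q ≠ 0)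
    (hpq : p ≠ q) (hA : A ≤ o2 (PM V ε p)) (hB : Best W A) (hm : ¬ A ≤ centralizer (UG V ε {p, q} : Set G)) :
    Co W A (fun k => o2 (PM V ε k)) p q := by
  have hF := fr_of h
  intro k hk0 hkp hkq a ha u hu κ hκ
  obtain ⟨c, hc0, hcp, hcq, hck⟩ := hF.exists_letter p q k
  have hY := ydat_of h hq hc0 hp hcq.symm hpq.symm hcp
  have h1 : A ≤ centralizer (UG V ε {q, c} : Set G) := hA.trans (hF.Q_cent hcq.symm hpq hcp.symm)
  have h2 : ¬ A ≤ centralizer (Cl V (PY V ε {q, c, p}) : Set G) := by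
    intro h3
    refine hm (h3.trans (centralizer_le (Cl_mono ?_)))
    exact YG_le_PY hpq (by simp) (by simp)
  have h3 := (hY.two hML (hA.trans (hF.Q_le_o2 p)) hB h1 h2).1 a ha u hu
  have h4 : k ∉ ({q, c, p} : Finset (Fin n)) := by simp [hkq, hkp, hck.symm]
  exact (mem_centralizer_iff.1 (cent_PU h h4 hκ) _ h3).symm

end Cfsg.Agent.Omega.NO3S.SN.ROne
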