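import Cfsg.Agent.Omega.NO3S.SN.R1.Two

/-!
# `r = 1` at every level (helper763 #23689; helper430 #22327 (3), (5); helper358 #22753 (1)-(4)): the frame

`V` a line on `z = z_0`, `W = ⟨V^M⟩`, `Q k` the conjugates of `O₂(M)` (`k` a letter).  Only the groups
`X_ij = C_G(V_ij)` occur (relative form: nothing is said about `C_G(z)`).

* `Fr V W ε Q` : the frame;
* `Sh W P b` : `b` normalises `P` and `[κ, u]^b = [κ^b, u]` for all `κ ∈ P`, `u ∈ W`;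
* `Fr.sh` : the conjugates of `A` have this property for `P = Q k` if `[W, A]` is centralised by `Q k`.
-/

set_option autoImplicit false
set_option linter.unusedSectionVars false

namespace Cfsg.Agent.Omega.NO3S.SN.ROne

open Subgroup Cfsg Cfsg.Agent.ZN Cfsg.Agent.Omega.S5.Def Cfsg.Agent.Omega.NO3S.SN.R1
open Cfsg.Agent.MinSimple.VModule

universe u

variable {G : Type u} [Group G]

/-- the frame -/
structure Fr {n : ℕ} [NeZero n] (V W : Subgroup G) (ε : (Fin n → ZMod 2) → G) (Q : Fin n → Subgroup G) : Prop where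
  n5 : 5 ≤ n
  ev : EvenSet n V (normalizer (V : Set G)) ε
  VW : V ≤ W
  Wc : ∀ a ∈ W, ∀ b ∈ W, a * b = b * a
  Ws : ∀ a ∈ W, a * a = 1
  WL : ∀ g ∈ normalizer (V : Set G), g * zz ε 0 * g⁻¹ = zz ε 0 → g ∈ normalizer (W : Set G)
  WX : ∀ i j : Fin n, i ≠ j → i ≠ 0 → j ≠ 0 → YG ε {i, j} ≤ normalizer (W : Set G)
  /-- fusion of the heavy vectors in `V` -/
  fus : ∀ (i : Fin n) (g : G), g * zz ε i * g⁻¹ ∈ V → ∃ j, g * zz ε i * g⁻¹ = zz ε j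
  /-- (B2) -/
  syl : ∀ i j : Fin n, i ≠ j → i ≠ 0 → j ≠ 0 → ∃ T : Subgroup G, T ≤ YG ε {i, j} ∧ T ≤ normalizer (V : Set G) ∧
    IsPGroup 2 T ∧ ¬ 2 ∣ T.relIndex (YG ε {i, j})
  kg : ∀ i j : Fin n, i ≠ j → i ≠ 0 → j ≠ 0 → IsKGroup (YG ε {i, j})
  Q2 : ∀ k, IsPGroup 2 (Q k)
  QV : ∀ k, Q k ≤ centralizer (V : Set G)
  QX : ∀ i j k : Fin n, i ≠ j → k ≠ i → k ≠ j → YG ε {i, j} ≤ normalizer (Q k : Set G)
  QL : ∀ (g : G) (σ : Equiv.Perm (Fin n)), Acts ε g σ → ∀ k, ∀ q ∈ Q k, g * q * g⁻¹ ∈ Q (σ k)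
  /-- `C_W(T) = V` for `T ∈ Syl₂(C_G(V))` -/
  cV : ∀ T : Subgroup G, T ≤ centralizer (V : Set G) → IsPGroup 2 T → ¬ 2 ∣ T.relIndex (centralizer (V : Set G)) →
    ∀ w ∈ W, (∀ t ∈ T, t * w * t⁻¹ = w) → w ∈ V

/-- `b` normalises `P` and `[κ, u]^b = [κ^b, u]` -/
def Sh (W P : Subgroup G) (b : G) : Prop :=
  b ∈ normalizer (P : Set G) ∧ ∀ κ ∈ P, ∀ u ∈ W,
    b * (κ * u * κ⁻¹ * u⁻¹) * b⁻¹ = (b * κ * b⁻¹) * u * (b * κ * b⁻¹)⁻¹ * u⁻¹

theorem Sh.one (W P : Subgroup G) : Sh W P 1 := ⟨one_mem _, fun κ _ u _ => by group⟩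

theorem Sh.mul {W P : Subgroup G} {b c : G} (hb : Sh W P b) (hc : Sh W P c) : Sh W P (b * c) := by
  refine ⟨mul_mem hb.1 hc.1, fun κ hκ u hu => ?_⟩
  have h1 := hc.2 κ hκ u hu
  have h2 := hb.2 _ ((mem_normalizer_iff.1 hc.1 κ).1 hκ) u hu
  calc b * c * (κ * u * κ⁻¹ * u⁻¹) * (b * c)⁻¹ = b * (c * (κ * u * κ⁻¹ * u⁻¹) * c⁻¹) * b⁻¹ := by group
    _ = _ := by rw [h1, h2]; group

theorem Sh.inv {W P : Subgroup G} {b : G} (hb : Sh W P b) : Sh W P b⁻¹ := by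
  refine ⟨inv_mem hb.1, fun κ hκ u hu => ?_⟩
  have h0 := (mem_normalizer_iff.1 (inv_mem hb.1) κ).1 hκ
  have h1 := hb.2 _ h0 u hu
  have h2 : b * (b⁻¹ * κ * b⁻¹⁻¹) * b⁻¹ = κ := by group
  rw [h2] at h1
  rw [← h1]
  group

/-- `Sh` is preserved by conjugation -/
theorem Sh.conj {W P P' : Subgroup G} {b g : G} (hb : Sh W P b) (hW : g ∈ normalizer (W : Set G))
    (hP : ∀ x, x ∈ P ↔ g * x * g⁻¹ ∈ P') : Sh W P' (g * b * g⁻¹) := by
  have hP' : ∀ x, x ∈ P' ↔ g⁻¹ * x * g ∈ P := by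
    intro x
    rw [hP]
    have e : g * (g⁻¹ * x * g) * g⁻¹ = x := by group
    rw [e]
  constructor
  · rw [mem_normalizer_iff]
    intro x
    rw [hP', hP', mem_normalizer_iff.1 hb.1 (g⁻¹ * x * g)]
    have e : g⁻¹ * (g * b * g⁻¹ * x * (g * b * g⁻¹)⁻¹) * g = b * (g⁻¹ * x * g) * b⁻¹ := by group
    rw [e]
  · intro κ hκ u hu
    have h1 := (hP' κ).1 hκ
    have h2 : g⁻¹ * u * g ∈ W := by
      have := (mem_normalizer_iff.1 (inv_mem hW) u).1 hu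
      rwa [inv_inv] at this
    have h3 := hb.2 _ h1 _ h2
    calc g * b * g⁻¹ * (κ * u * κ⁻¹ * u⁻¹) * (g * b * g⁻¹)⁻¹ =
        g * (b * ((g⁻¹ * κ * g) * (g⁻¹ * u * g) * (g⁻¹ * κ * g)⁻¹ * (g⁻¹ * u * g)⁻¹) * b⁻¹) * g⁻¹ := by group
      _ = _ := by rw [h3]; group

section frame

variable {n : ℕ} [NeZero n] {V W A : Subgroup G} {ε : (Fin n → ZMod 2) → G} {Q : Fin n → Subgroup G}

theorem Fr.n3 (h : Fr V W ε Q) : 3 ≤ n := le_trans (by norm_num) h.n5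

omit [NeZero n] in
/-- an element acting as a permutation normalises `V` (finite case not needed) -/
theorem acts_mem_normalizer {L : Subgroup G} (ev : EvenSet n V L ε) {g : G} {σ : Equiv.Perm (Fin n)}
    (hg : Acts ε g σ) : g ∈ normalizer (V : Set G) := by
  rw [mem_normalizer_iff]
  intro x
  constructor
  · intro hx
    obtain ⟨y, rfl⟩ := ev.surj x hx
    rw [hg y]
    exact ev.mem _
  · intro hx
    obtain ⟨y, hy⟩ := ev.surj _ hx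
    have h1 := hg.inv y
    have e : x = g⁻¹ * (g * x * g⁻¹) * g⁻¹⁻¹ := by group
    rw [e, ← hy, h1]
    exact ev.mem _

/-- three letters -/
theorem Fr.exists_letter (h : Fr V W ε Q) (a b c : Fin n) : ∃ k : Fin n, k ≠ 0 ∧ k ≠ a ∧ k ≠ b ∧ k ≠ c := by
  have h1 : ({0, a, b, c} : Finset (Fin n)).card < (Finset.univ : Finset (Fin n)).card := by
    rw [Finset.card_univ, Fintype.card_fin]
    exact lt_of_le_of_lt Finset.card_le_four (by have := h.n5; omega)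
  obtain ⟨k, -, hk⟩ := Finset.exists_mem_notMem_of_card_lt_card h1
  simp only [Finset.mem_insert, Finset.mem_singleton, not_or] at hk
  exact ⟨k, hk.1, hk.2.1, hk.2.2.1, hk.2.2.2⟩

theorem Fr.cent_Q (h : Fr V W ε Q) (k : Fin n) : centralizer (V : Set G) ≤ normalizer (Q k : Set G) := by
  obtain ⟨i, -, hi, -, -⟩ := h.exists_letter k k k
  obtain ⟨j, -, hj, hji, -⟩ := h.exists_letter k i i
  exact (centralizer_le_YG h.ev {i, j}).trans (h.QX i j k hji.symm hi.symm hj.symm)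

theorem Fr.cent_W (h : Fr V W ε Q) : centralizer (V : Set G) ≤ normalizer (W : Set G) := by
  intro g hg
  refine h.WL g (centralizer_le_normalizer _ hg) ?_
  have h1 := mem_centralizer_iff.1 hg _ (h.ev.mem (Pi.single 0 1))
  change g * ε (Pi.single 0 1) * g⁻¹ = ε (Pi.single 0 1)
  rw [← h1, mul_inv_cancel_right]

theorem Fr.Q_le_o2 (h : Fr V W ε Q) (k : Fin n) : Q k ≤ o2 (centralizer (V : Set G)) :=
  le_o2 (h.QV k) (h.Q2 k) (h.cent_Q k)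

/-- `Q k` centralises `U_ij`, `k ∉ {i, j}` -/
theorem Fr.Q_cent (h : Fr V W ε Q) {i j k : Fin n} (hij : i ≠ j) (hki : k ≠ i) (hkj : k ≠ j) :
    Q k ≤ centralizer (UG V ε {i, j} : Set G) := by
  intro q hq
  rw [mem_centralizer_iff]
  intro u hu
  refine closure_induction (p := fun x _ => x * q = q * x) ?_ ?_ ?_ ?_ hu
  · rintro _ ⟨y, hy, v, hv, rfl⟩
    have h1 : y⁻¹ * q * y ∈ Q k := by
      have := (mem_normalizer_iff.1 (inv_mem (h.QX i j k hij hki hkj hy)) q).1 hq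
      rwa [inv_inv] at this
    have h2 := mem_centralizer_iff.1 (h.QV k h1) v hv
    calc y * v * y⁻¹ * q = y * (v * (y⁻¹ * q * y)) * y⁻¹ := by group
      _ = y * ((y⁻¹ * q * y) * v) * y⁻¹ := by rw [h2]
      _ = q * (y * v * y⁻¹) := by group
  · rw [one_mul, mul_one]
  · intro x y _ _ h1 h2
    rw [mul_assoc, h2, ← mul_assoc, h1, mul_assoc]
  · intro x _ h1
    have h2 : Commute x q := h1
    exact h2.inv_left

theorem Fr.UG_le (h : Fr V W ε Q) {i j : Fin n} (hij : i ≠ j) (hi : i ≠ 0) (hj : j ≠ 0) : UG V ε {i, j} ≤ W :=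
  Cl_le h.VW (h.WX i j hij hi hj)

/-- the conjugates of `A` by `X_ij` have the property `Sh` for `Q k`, if `[W, A]` is centralised by `Q k` -/
theorem Fr.sh (h : Fr V W ε Q) (hA : A ≤ centralizer (V : Set G)) {i j k : Fin n} (hij : i ≠ j) (hi : i ≠ 0)
    (hj : j ≠ 0) (hki : k ≠ i) (hkj : k ≠ j) (hc : ∀ a ∈ A, ∀ u ∈ W, ∀ κ ∈ Q k, κ * (a * u * a⁻¹ * u⁻¹) =
      (a * u * a⁻¹ * u⁻¹) * κ) {x a : G} (hx : x ∈ YG ε {i, j}) (ha : a ∈ A) : Sh W (Q k) (x * a * x⁻¹) := by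
  have haQ := h.cent_Q k (hA ha)
  have haW := h.cent_W (hA ha)
  have hxQ := h.QX i j k hij hki hkj hx
  have hxW := h.WX i j hij hi hj hx
  have h1 : Sh W (Q k) a := by
    refine ⟨haQ, fun κ hκ u hu => ?_⟩
    obtain ⟨m, hm⟩ : ∃ m, m = a * u * a⁻¹ * u⁻¹ := ⟨_, rfl⟩
    have hmW : m ∈ W := by
      rw [hm]
      exact mul_mem ((mem_normalizer_iff.1 haW u).1 hu) (inv_mem hu)
    have hau : a * u * a⁻¹ = m * u := by rw [hm]; group
    obtain ⟨κ', hκ'⟩ : ∃ κ', κ' = a * κ * a⁻¹ := ⟨_, rfl⟩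
    have hκ'Q : κ' ∈ Q k := by
      rw [hκ']
      exact (mem_normalizer_iff.1 haQ κ).1 hκ
    have hκm : κ' * m = m * κ' := by
      rw [hm]
      exact hc a ha u hu κ' hκ'Q
    have hcW : κ' * u * κ'⁻¹ * u⁻¹ ∈ W :=
      mul_mem ((mem_normalizer_iff.1 (h.cent_W (h.QV k hκ'Q)) u).1 hu) (inv_mem hu)
    calc a * (κ * u * κ⁻¹ * u⁻¹) * a⁻¹
        = (a * κ * a⁻¹) * (a * u * a⁻¹) * (a * κ * a⁻¹)⁻¹ * (a * u * a⁻¹)⁻¹ := by group
      _ = κ' * (m * u) * κ'⁻¹ * (m * u)⁻¹ := by rw [hau, hκ']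
      _ = (κ' * m) * u * κ'⁻¹ * u⁻¹ * m⁻¹ := by group
      _ = m * (κ' * u * κ'⁻¹ * u⁻¹) * m⁻¹ := by rw [hκm]; group
      _ = (κ' * u * κ'⁻¹ * u⁻¹) * m * m⁻¹ := by rw [h.Wc m hmW _ hcW]
      _ = κ' * u * κ'⁻¹ * u⁻¹ := by group
      _ = _ := by rw [hκ']
  exact h1.conj hxW fun y => mem_normalizer_iff.1 hxQ y

end frame

end Cfsg.Agent.Omega.NO3S.SN.ROne
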